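import Cfsg.Agent.Lib.Derangements.LinearElusiveMain
import Cfsg.Agent.Lib.Derangements.NullInvariant
import Cfsg.Agent.Lib.Classical.HermTS
import Cfsg.Agent.Lib.Classical.HermMax
import Cfsg.Agent.Lib.Classical.HermMatrix

/-!
# Invariant subspaces of unitary maps of prime order modulo scalars: generalities
-/

set_option autoImplicit false
set_option linter.unusedSectionVars false

namespace CfsgLib.Derangements.UnitElusive

open Module CfsgLib.Classical CfsgLib.Derangements.LinElusive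

section Arith

variable {r q : ℕ} [Fact r.Prime]

theorem two_ne_zero_zmod (hr2 : Odd r) : (2 : ZMod r) ≠ 0 := fun h => by
  have h2 : ((2 : ℕ) : ZMod r) = 0 := by exact_mod_cast h
  have := (Nat.prime_dvd_prime_iff_eq (Fact.out : r.Prime) Nat.prime_two).1 ((ZMod.natCast_eq_zero_iff _ _).1 h2)
  rw [this] at hr2
  exact absurd hr2 (by decide)

/-- The exponents `b` and `c` as orders modulo `r`. -/
theorem exps (hr2 : Odd r) (hq : (q : ZMod r) ≠ 0) {i b c : ℕ} (hi : i = orderOf (q : ZMod r))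
    (hb : b = if Even i then i / 2 else i)
    (hc : c = if i % 4 = 0 then i else if i % 4 = 2 then i / 2 else 2 * i) :
    0 < b ∧ orderOf ((q ^ 2 : ℕ) : ZMod r) = b ∧ orderOf (-(q : ZMod r)) = c ∧
      (i % 4 = 2 → c = b ∧ Odd b ∧ (q : ZMod r) ^ b = -1 ∧ i = 2 * b) ∧
      (i % 4 ≠ 2 → c = 2 * b) ∧ (i = 2 ↔ r ∣ q + 1) := by
  set x : ZMod r := (q : ZMod r) with hx
  have hrp : r.Prime := Fact.out
  have hfin : IsOfFinOrder x := isOfFinOrder_iff_pow_eq_one.2 ⟨r - 1, by have := hrp.two_le; omega,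
    ZMod.pow_card_sub_one_eq_one hq⟩
  have hi0 : 0 < i := hi ▸ orderOf_pos_iff.2 hfin
  have hpow : x ^ i = 1 := hi ▸ pow_orderOf_eq_one x
  have h11 : (-1 : ZMod r) ≠ 1 := fun h => two_ne_zero_zmod hr2 (by linear_combination -h)
  haveI : Fact (Nat.Prime 2) := ⟨Nat.prime_two⟩
  have hord2 : orderOf (-1 : ZMod r) = 2 := orderOf_eq_prime neg_one_sq h11
  have hneg : ∀ {j : ℕ}, Even i → j = i / 2 → x ^ j = -1 := fun {j} hev hj => by
    obtain ⟨t, ht⟩ := hev
    have h1 : x ^ j * x ^ j = 1 := by rw [← pow_add, show j + j = i by omega, hpow]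
    rcases mul_self_eq_one_iff.1 h1 with h | h
    · have := Nat.le_of_dvd (by omega) (orderOf_dvd_of_pow_eq_one h)
      omega
    · exact h
  refine ⟨?_, ?_, ?_, fun h4 => ?_, fun h4 => ?_, ?_⟩
  · rw [hb]
    split_ifs with h
    · obtain ⟨t, ht⟩ := h; omega
    · exact hi0
  · rw [Nat.cast_pow, ← hx, orderOf_pow' x two_ne_zero, ← hi, hb]
    split_ifs with h
    · rw [Nat.gcd_eq_right (even_iff_two_dvd.1 h)]
    · rw [Nat.Coprime.gcd_eq_one ((Nat.coprime_two_right).2 (Nat.not_even_iff_odd.1 h)), Nat.div_one]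
  · rw [hc]
    rcases Nat.even_or_odd i with hev | hodd
    · obtain ⟨t, ht⟩ := hev
      have hd2 : i ∣ 2 * orderOf (-x) := by
        rw [hi]
        refine orderOf_dvd_of_pow_eq_one ?_
        have := pow_orderOf_eq_one (-x)
        rw [pow_mul, ← neg_sq x, ← pow_mul, mul_comm, pow_mul, this, one_pow]
      have hd1 : orderOf (-x) ∣ i := orderOf_dvd_of_pow_eq_one (by rw [Even.neg_pow ⟨t, ht⟩, hpow])
      obtain ⟨u, hu⟩ := hd2
      rcases Nat.even_or_odd t with htev | htodd
      · rw [if_pos (by obtain ⟨v, hv⟩ := htev; omega)]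
        refine Nat.dvd_antisymm hd1 ?_
        rcases Nat.lt_or_ge u 2 with hu1 | hu2
        · exfalso
          have hu' : u = 1 := by
            rcases Nat.eq_zero_or_pos u with h0 | h0
            · subst h0
              have := Nat.pos_of_dvd_of_pos hd1 hi0
              omega
            · omega
          subst hu'
          have h1 : (-x) ^ t = 1 := by
            rw [show t = orderOf (-x) by omega]
            exact pow_orderOf_eq_one _
          rw [htev.neg_pow, hneg ⟨t, ht⟩ (by omega)] at h1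
          exact h11 h1
        · have h1 := Nat.le_of_dvd hi0 hd1
          have h2 : i * 2 ≤ i * u := Nat.mul_le_mul_left i hu2
          exact dvd_of_eq (by omega)
      · obtain ⟨v, hv⟩ := htodd
        rw [if_neg (by omega), if_pos (by omega)]
        refine Nat.dvd_antisymm (orderOf_dvd_of_pow_eq_one ?_) ?_
        · rw [Odd.neg_pow ⟨v, by omega⟩, hneg ⟨t, ht⟩ rfl, neg_neg]
        · exact Nat.dvd_of_mul_dvd_mul_left two_pos (Dvd.intro u (by rw [show 2 * (i / 2) = i by omega]; exact hu.symm))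
    · obtain ⟨t, ht⟩ := hodd
      rw [if_neg (by omega), if_neg (by omega), neg_eq_neg_one_mul,
        (Commute.all _ _).orderOf_mul_eq_mul_orderOf_of_coprime, ← hi, hord2]
      rw [← hi, hord2]
      exact Nat.coprime_two_left.2 ⟨t, ht⟩
  · have hev : Even i := ⟨i / 2, by omega⟩
    rw [if_pos hev] at hb
    rw [if_neg (by omega), if_pos h4] at hc
    exact ⟨hc.trans hb.symm, ⟨i / 4, by omega⟩, by rw [hb]; exact hneg hev rfl, by omega⟩
  · rcases Nat.even_or_odd i with hev | hodd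
    · obtain ⟨t, ht⟩ := hev
      rw [if_pos ⟨t, ht⟩] at hb
      rw [if_pos (by omega)] at hc
      omega
    · rw [if_neg (Nat.not_even_iff_odd.2 hodd)] at hb
      obtain ⟨t, ht⟩ := hodd
      rw [if_neg (by omega), if_neg (by omega)] at hc
      omega
  · rw [← ZMod.natCast_eq_zero_iff, Nat.cast_add, Nat.cast_one, ← hx]
    constructor
    · intro h
      have h1 := hneg (j := 1) ⟨1, h⟩ (by omega)
      rw [pow_one] at h1
      rw [h1]
      ring
    · intro h
      have hx1 : x = -1 := by linear_combination h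
      rw [hi, hx1]
      exact hord2

end Arith

section Scalars

variable {F : Type*} [Field F] [Fintype F] {q r : ℕ} [Fact r.Prime]

theorem card_sub_one (hF : Fintype.card F = q ^ 2) : Fintype.card F - 1 = (q + 1) * (q - 1) := by
  rw [hF]
  simpa using Nat.sq_sub_sq q 1

theorem natCast_ne_zero_iff (hF : Fintype.card F = q ^ 2) : (r : F) ≠ 0 ↔ (q : ZMod r) ≠ 0 := by
  obtain ⟨p, hpc⟩ := CharP.exists F
  haveI := hpc
  obtain ⟨k, hp, hk⟩ := FiniteField.card F p
  have hrp : r.Prime := Fact.out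
  rw [Ne, CharP.cast_eq_zero_iff F p, Nat.prime_dvd_prime_iff_eq hp hrp, Ne, ZMod.natCast_eq_zero_iff]
  refine not_congr ⟨fun h => ?_, fun h => ?_⟩
  · subst h
    exact hp.dvd_of_dvd_pow (hF ▸ hk ▸ dvd_pow_self _ k.ne_zero)
  · have h1 : r ∣ p ^ (k : ℕ) := by rw [← hk, hF]; exact dvd_pow h two_ne_zero
    exact ((Nat.prime_dvd_prime_iff_eq hrp hp).1 (hrp.dvd_of_dvd_pow h1)).symm

theorem coprime_sub_one (hr2 : Odd r) (h : r ∣ q + 1) (hq : 1 ≤ q) : (q - 1).Coprime r := by
  refine ((Fact.out : r.Prime).coprime_iff_not_dvd.2 fun hd => ?_).symm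
  have h2 := Nat.dvd_sub h hd
  rw [show q + 1 - (q - 1) = 2 by omega] at h2
  have := (Nat.prime_dvd_prime_iff_eq (Fact.out : r.Prime) Nat.prime_two).1 h2
  rw [this] at hr2
  exact absurd hr2 (by decide)

/-- An `r`-th power in the norm one group, or no `r`-th power at all. -/
theorem norm_root_or (hF : Fintype.card F = q ^ 2) (hr2 : Odd r) {z : F} (hz : z ^ (q + 1) = 1) :
    (∃ w : F, w ^ (q + 1) = 1 ∧ w ^ r = z) ∨
      (r ∣ q + 1 ∧ (∀ d : F, d ^ r ≠ z) ∧ z ^ ((q + 1) / r) ≠ 1) := by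
  have hrp : r.Prime := Fact.out
  have hq := two_le_of_card_sq hF
  by_cases hd : r ∣ q + 1
  swap
  · obtain ⟨a, ha⟩ := Nat.exists_mul_mod_eq_one_of_coprime (hrp.coprime_iff_not_dvd.2 hd) (by omega : 1 < q + 1)
    refine Or.inl ⟨z ^ a, by rw [← pow_mul, mul_comm, pow_mul, hz, one_pow], ?_⟩
    rw [← pow_mul, ← Nat.mod_add_div (a * r) (q + 1), mul_comm a r, ha.2, pow_add, pow_mul, hz, one_pow, mul_one,
      pow_one]
  obtain ⟨u, hu⟩ := hd
  by_cases hw : ∃ d : F, d ^ r = z
  · obtain ⟨d, rfl⟩ := hw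
    refine Or.inl ⟨d, ?_, rfl⟩
    have hd0 : d ≠ 0 := fun h0 => by
      rw [h0, zero_pow hrp.ne_zero, zero_pow (by omega)] at hz
      exact zero_ne_one hz
    have h1 : (d ^ (q + 1)) ^ r = 1 := by rw [← pow_mul, mul_comm, pow_mul, hz]
    have h2 : (d ^ (q + 1)) ^ (q - 1) = 1 := by
      rw [← pow_mul, ← card_sub_one hF]
      exact FiniteField.pow_card_sub_one_eq_one d hd0
    have h3 := pow_gcd_eq_one.2 ⟨h2, h1⟩
    rwa [(coprime_sub_one hr2 ⟨u, hu⟩ (by omega)).gcd_eq_one, pow_one] at h3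
  · push Not at hw
    refine Or.inr ⟨⟨u, hu⟩, hw, fun h => ?_⟩
    rw [hu, Nat.mul_div_cancel_left _ hrp.pos] at h
    have hz0 : z ≠ 0 := fun h0 => by rw [h0, zero_pow (by omega)] at hz; exact zero_ne_one hz
    have hdiv : r ∣ Fintype.card F - 1 := ⟨u * (q - 1), by rw [card_sub_one hF, hu, mul_assoc]⟩
    obtain ⟨d, hd'⟩ := (exists_pow_eq_iff hdiv hz0).2 (by
      rw [card_sub_one hF, hu, mul_assoc, Nat.mul_div_cancel_left _ hrp.pos, pow_mul, h, one_pow])
    exact hw d hd'

/-- When the `r`-part of `n` is small every admissible scalar is an `r`-th power. -/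
theorem pow_div_eq_one {n : ℕ} (hn : n ≠ 0) (hdvd : r ∣ q + 1) (hrn : r ∣ n)
    (hv : padicValNat r n ≤ padicValNat r (q + 1)) {z : F} (hz : z ^ (q + 1) = 1) (hz' : z ^ (n / r) = 1) :
    z ^ ((q + 1) / r) = 1 := by
  have hrp : r.Prime := Fact.out
  set g := Nat.gcd (n / r) (q + 1)
  have hg : z ^ g = 1 := pow_gcd_eq_one.2 ⟨hz', hz⟩
  obtain ⟨k, hk⟩ : g ∣ q + 1 := Nat.gcd_dvd_right _ _
  have hrk : r ∣ k := by
    by_contra hno
    set A := padicValNat r (q + 1) with hA
    have h1 : r ^ A ∣ g := by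
      have h2 : r ^ A ∣ g * k := hk ▸ pow_padicValNat_dvd
      exact (Nat.Coprime.pow_left A (hrp.coprime_iff_not_dvd.2 hno)).dvd_of_dvd_mul_right h2
    have h2 : r ^ (A + 1) ∣ n := by
      rw [pow_succ]
      exact (Nat.mul_dvd_mul_right (h1.trans (Nat.gcd_dvd_left _ _)) r).trans (dvd_of_eq (Nat.div_mul_cancel hrn))
    have h3 := (padicValNat_dvd_iff_le hn).1 h2
    omega
  obtain ⟨u, rfl⟩ := hrk
  rw [hk, show g * (r * u) = r * (g * u) by ring, Nat.mul_div_cancel_left _ hrp.pos, pow_mul, hg, one_pow]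

end Scalars

section Forms

variable {F : Type*} [Field F] {V : Type*} [AddCommGroup V] [Module F V] [FiniteDimensional F V] {σ : F →+* F}
  {B : V →ₛₗ[σ] V →ₗ[F] F} {L : Module.End F V}

/-- The form vanishes on the subspace. -/
def Null (B : V →ₛₗ[σ] V →ₗ[F] F) (U : Submodule F V) : Prop := ∀ u ∈ U, ∀ v ∈ U, B u v = 0

theorem Null.mono {U W : Submodule F V} (h : Null B W) (hle : U ≤ W) : Null B U :=
  fun u hu v hv => h u (hle hu) v (hle hv)

theorem null_bot : Null B (⊥ : Submodule F V) := fun u hu v _ => by simp [(Submodule.mem_bot F).1 hu]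

theorem Null.sup (h : IsHermitian B) {U W : Submodule F V} (hU : Null B U) (hW : Null B W)
    (h1 : ∀ u ∈ U, ∀ w ∈ W, B u w = 0) : Null B (U ⊔ W) := by
  intro x hx y hy
  obtain ⟨a, ha, b, hb, rfl⟩ := Submodule.mem_sup.1 hx
  obtain ⟨a', ha', b', hb', rfl⟩ := Submodule.mem_sup.1 hy
  simp only [map_add, LinearMap.add_apply, hU a ha a' ha', h1 a ha b' hb', h.isRefl _ _ (h1 a' ha' b hb),
    hW b hb b' hb', add_zero]

theorem nondegOn_bot : NondegOn B (⊥ : Submodule F V) := disjoint_bot_left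

theorem nondegOn_top (hN : B.SeparatingRight) : NondegOn B (⊤ : Submodule F V) :=
  nondegOn_iff.2 fun x _ hx => hN x fun w => hx w trivial

theorem nondegOn_sup (h : IsHermitian B) {U W : Submodule F V} (hU : NondegOn B U) (hW : NondegOn B W)
    (h1 : ∀ u ∈ U, ∀ w ∈ W, B u w = 0) : NondegOn B (U ⊔ W) := by
  refine nondegOn_iff.2 fun x hx hx' => ?_
  obtain ⟨a, ha, b, hb, rfl⟩ := Submodule.mem_sup.1 hx
  have ha0 : a = 0 := nondegOn_iff.1 hU a ha fun u hu => by
    have := hx' u (Submodule.mem_sup_left hu)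
    rwa [map_add, h1 u hu b hb, add_zero] at this
  have hb0 : b = 0 := nondegOn_iff.1 hW b hb fun w hw => by
    have := hx' w (Submodule.mem_sup_right hw)
    rwa [map_add, h.isRefl _ _ (h1 a ha w hw), zero_add] at this
  rw [ha0, hb0, add_zero]

theorem disjoint_of_orth {U W : Submodule F V} (hU : NondegOn B U) (h1 : ∀ u ∈ U, ∀ w ∈ W, B u w = 0) :
    Disjoint U W :=
  Submodule.disjoint_def.2 fun x hxU hxW => nondegOn_iff.1 hU x hxU fun u hu => h1 u hu x hxW

theorem finrank_sup_orth {U W : Submodule F V} (hU : NondegOn B U) (h1 : ∀ u ∈ U, ∀ w ∈ W, B u w = 0) :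
    finrank F (U ⊔ W : Submodule F V) = finrank F U + finrank F W :=
  finrank_sup_of_disjoint (disjoint_of_orth hU h1)

theorem exists_le_finrank (W : Submodule F V) {d : ℕ} (hd : d ≤ finrank F W) :
    ∃ S ≤ W, finrank F S = d := by
  obtain ⟨g, hg⟩ := exists_linearIndependent_of_le_finrank hd
  refine ⟨Submodule.span F (Set.range fun k => (g k : V)), Submodule.span_le.2 ?_,
    (finrank_span_eq_card (hg.map' W.subtype W.ker_subtype)).trans (Fintype.card_fin d)⟩
  rintro _ ⟨k, rfl⟩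
  exact (g k).2

theorem injective_of_isom (hN : B.SeparatingRight) (hB : ∀ x y, B (L x) (L y) = B x y) : Function.Injective L :=
  (injective_iff_map_eq_zero _).2 fun x hx => hN x fun y => by rw [← hB, hx, map_zero]

theorem map_eq_of_inv (hinj : Function.Injective L) {U : Submodule F V} (hU : Inv L U) : U.map L = U :=
  Submodule.eq_of_le_of_finrank_eq hU (Submodule.equivMapOfInjective L hinj U).finrank_eq.symm

theorem inv_perp (hinj : Function.Injective L) (hB : ∀ x y, B (L x) (L y) = B x y) {U : Submodule F V}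
    (hU : Inv L U) : Inv L (perp B U) := Inv.of_mem fun y hy => mem_perp.2 fun w hw => by
  rw [← map_eq_of_inv hinj hU] at hw
  obtain ⟨w', hw', rfl⟩ := Submodule.mem_map.1 hw
  rw [hB]
  exact mem_perp.1 hy w' hw'

theorem inv_bot : Inv L (⊥ : Submodule F V) := Inv.of_mem (by simp)

theorem inv_top : Inv L (⊤ : Submodule F V) := Inv.of_mem fun _ _ => trivial

theorem inv_smul {w : F} (hw : w ≠ 0) {U : Submodule F V} : Inv (w • L) U ↔ Inv L U := by
  rw [LinElusive.Inv, LinElusive.Inv, Submodule.map_smul L U w hw]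

theorem inv_of_le_fixed {U : Submodule F V} (hU : U ≤ L.eigenspace 1) : Inv L U := Inv.of_mem fun u hu => by
  have := hU hu
  rw [Module.End.mem_eigenspace_iff, one_smul] at this
  rwa [this]

/-- The fixed space and the moved part are orthogonal and non-degenerate. -/
theorem moved_facts (h : IsHermitian B) (hN : B.SeparatingRight) (hB : ∀ x y, B (L x) (L y) = B x y)
    {E : Submodule F V} (hc : IsCompl (L.eigenspace 1) E) (hE : Inv L E) :
    (∀ e ∈ E, ∀ z ∈ L.eigenspace 1, B e z = 0) ∧ NondegOn B E ∧ NondegOn B (L.eigenspace 1) := by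
  have horth : ∀ e ∈ E, ∀ z ∈ L.eigenspace 1, B e z = 0 := fun e he z hz => by
    let T : E →ₗ[F] E := (L.restrict fun u hu' => hE.mem hu') - LinearMap.id
    have hTa : ∀ y : E, (T y : V) = L y - y := fun y => rfl
    have hT : Function.Injective T := (injective_iff_map_eq_zero _).2 fun y hy => Subtype.ext <| by
      refine Submodule.disjoint_def.1 hc.disjoint _ ?_ y.2
      rw [Module.End.mem_eigenspace_iff, one_smul, ← sub_eq_zero, ← hTa, hy]
      rfl
    obtain ⟨y, hy⟩ := LinearMap.injective_iff_surjective.1 hT ⟨e, he⟩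
    have h1 : L (y : V) - y = e := congrArg Subtype.val hy
    rw [Module.End.mem_eigenspace_iff, one_smul] at hz
    rw [← h1, map_sub, LinearMap.sub_apply]
    conv_lhs => arg 1; rw [← hz]
    rw [hB, sub_self]
  refine ⟨horth, nondegOn_iff.2 fun x hx hx' => hN x fun v => ?_, nondegOn_iff.2 fun x hx hx' => hN x fun v => ?_⟩ <;>
    obtain ⟨z, hz, e, he, rfl⟩ := Submodule.mem_sup.1 (hc.sup_eq_top ▸ Submodule.mem_top (x := v)) <;>
    rw [map_add, LinearMap.add_apply]
  · rw [h.isRefl _ _ (horth x hx z hz), hx' e he, add_zero]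
  · rw [hx' z hz, horth e he x hx, add_zero]

/-- A non-degenerate subspace split along an orthogonal decomposition has non-degenerate parts. -/
theorem nondegOn_inf (h : IsHermitian B) {W C E : Submodule F V} (horth : ∀ e ∈ E, ∀ z ∈ C, B e z = 0)
    (hd : Disjoint C E) (hsum : finrank F W = finrank F (W ⊓ C : Submodule F V) + finrank F (W ⊓ E : Submodule F V))
    (hW : NondegOn B W) : NondegOn B (W ⊓ E) ∧ NondegOn B (W ⊓ C) := by
  have hsup : W ⊓ C ⊔ W ⊓ E = W := Submodule.eq_of_le_of_finrank_eq (sup_le inf_le_left inf_le_left) (by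
    rw [finrank_sup_of_disjoint (hd.mono inf_le_right inf_le_right), hsum])
  constructor <;> refine nondegOn_iff.2 fun x hx hx' => nondegOn_iff.1 hW x hx.1 fun w hw => ?_ <;>
    rw [← hsup] at hw <;>
    obtain ⟨a, ha, b, hb, rfl⟩ := Submodule.mem_sup.1 hw <;>
    rw [map_add, LinearMap.add_apply]
  · rw [hx' b hb, h.isRefl _ _ (horth x hx.2 a ha.2), add_zero]
  · rw [hx' a ha, horth b hb.2 x hx.2, add_zero]

variable [Fintype F]

theorem Null.two_mul_le_on (h : IsHermitian B) {X W : Submodule F V} (hX : NondegOn B X) (hWX : W ≤ X)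
    (hW : Null B W) : 2 * finrank F W ≤ finrank F X := by
  set W' : Submodule F X := W.comap X.subtype
  have hN' := restrictForm_separatingRight hX
  have hle : W' ≤ perp (restrictForm B X) W' := fun v hv => mem_perp.2 fun w hw => hW _ hw _ hv
  have h1 := Submodule.finrank_mono hle
  have hW' : finrank F W' = finrank F W := (Submodule.comapSubtypeEquivOfLe hWX).finrank_eq
  have key : finrank F (perp (restrictForm B X) W') + finrank F W' ≤ finrank F X := by
    have hf : ∀ f : X →ₗ[F] F, ∃ w, ∀ a, restrictForm B X w a = f a := (h.restrict X).exists_form_eq hN'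
    let b := finBasis F W'
    let T : X →ₗ[F] (Fin (finrank F W') → F) := LinearMap.pi fun i => restrictForm B X (b i : X)
    have hT : Function.Surjective T := by
      intro y
      obtain ⟨G, hG⟩ := LinearMap.exists_extend (b.constr F fun i => σ (y i) : W' →ₗ[F] F)
      obtain ⟨v, hv⟩ := hf G
      refine ⟨v, funext fun i => ?_⟩
      have h1 : restrictForm B X v (b i : X) = σ (y i) := by
        rw [hv]
        exact (LinearMap.congr_fun hG (b i)).trans (b.constr_basis F _ i)
      show restrictForm B X (b i : X) v = y i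
      rw [← (h.restrict X).symm, h1, h.conj.invol]
    have hker : perp (restrictForm B X) W' ≤ LinearMap.ker T := fun v hv =>
      LinearMap.mem_ker.2 (funext fun i => mem_perp.1 hv _ (b i).2)
    have h2 := T.finrank_range_add_finrank_ker
    rw [LinearMap.range_eq_top.2 hT, finrank_top, Module.finrank_fin_fun] at h2
    have h3 := Submodule.finrank_mono hker
    omega
  omega

theorem Null.two_mul_le (h : IsHermitian B) (hN : B.SeparatingRight) {W : Submodule F V} (hW : Null B W) :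
    2 * finrank F W ≤ finrank F V := by
  simpa using hW.two_mul_le_on h (nondegOn_top hN) le_top

/-- A decomposition into non-degenerate invariant pieces of dimension `c`. -/
theorem exists_pieces (h : IsHermitian B) (hinj : Function.Injective L) (hB : ∀ x y, B (L x) (L y) = B x y)
    {E : Submodule F V} {c : ℕ} (hc : 0 < c)
    (hpiece : ∀ X ≤ E, Inv L X → NondegOn B X → X ≠ ⊥ →
      ∃ P : Submodule F V, P ≤ X ∧ Inv L P ∧ NondegOn B P ∧ finrank F P = c)
    {X : Submodule F V} (hXE : X ≤ E) (hX : Inv L X) (hXn : NondegOn B X) :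
    c ∣ finrank F X ∧ ∀ a, a * c ≤ finrank F X →
      ∃ P : Submodule F V, P ≤ X ∧ Inv L P ∧ NondegOn B P ∧ finrank F P = a * c := by
  induction hn : finrank F X using Nat.strong_induction_on generalizing X with
  | _ n ih =>
  subst hn
  have hzero : ∃ P : Submodule F V, P ≤ X ∧ Inv L P ∧ NondegOn B P ∧ finrank F P = 0 :=
    ⟨⊥, bot_le, inv_bot, nondegOn_bot, finrank_bot F V⟩
  rcases eq_or_ne X ⊥ with rfl | hne
  · refine ⟨by simp, fun a ha => ?_⟩
    rw [finrank_bot] at ha
    rw [Nat.le_zero.1 ha]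
    exact hzero
  obtain ⟨P₀, hP₀X, hP₀, hP₀n, hP₀d⟩ := hpiece X hXE hX hXn hne
  obtain ⟨hX'n, hX'd⟩ := h.finrank_inf_perp hP₀n hXn hP₀X
  have hX' : Inv L (X ⊓ perp B P₀) := hX.inf (inv_perp hinj hB hP₀)
  obtain ⟨hdvd, hall⟩ := ih _ (by omega) (inf_le_left.trans hXE) hX' hX'n rfl
  refine ⟨by rw [← hX'd, hP₀d]; exact dvd_add hdvd dvd_rfl, fun a ha => ?_⟩
  rcases a with _ | a
  · simpa using hzero
  rw [add_mul, one_mul] at ha
  obtain ⟨P, hPX, hP, hPn, hPd⟩ := hall a (by omega)
  have horth : ∀ u ∈ P₀, ∀ w ∈ P, B u w = 0 := fun u hu w hw => mem_perp.1 (hPX hw).2 u hu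
  refine ⟨P₀ ⊔ P, sup_le hP₀X (hPX.trans inf_le_left), hP₀.sup hP, nondegOn_sup h hP₀n hPn horth, ?_⟩
  rw [finrank_sup_orth hP₀n horth, hP₀d, hPd, add_mul, one_mul, add_comm]

/-- A maximal null invariant subspace is large. -/
theorem exists_null_large (h : IsHermitian B) (hB : ∀ x y, B (L x) (L y) = B x y)
    (hinj : Function.Injective L) (hs : Split L) {E : Submodule F V} {s : ℕ}
    (hex : ∀ X ≤ E, Inv L X → NondegOn B X → s < finrank F X →
      ∃ U : Submodule F V, U ≤ X ∧ Inv L U ∧ Null B U ∧ U ≠ ⊥)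
    (hE : Inv L E) (hEn : NondegOn B E) :
    ∃ W : Submodule F V, W ≤ E ∧ Inv L W ∧ Null B W ∧ finrank F E ≤ 2 * finrank F W + s := by
  suffices H : ∀ n, ∀ X ≤ E, Inv L X → NondegOn B X → finrank F X = n →
      ∃ W : Submodule F V, W ≤ X ∧ Inv L W ∧ Null B W ∧ finrank F X ≤ 2 * finrank F W + s from
    H _ E le_rfl hE hEn rfl
  intro n
  induction n using Nat.strong_induction_on with
  | _ n ih =>
  intro X hXE hX hXn hn
  rcases Nat.lt_or_ge s (finrank F X) with hlt | hge
  swap
  · exact ⟨⊥, bot_le, inv_bot, null_bot, by simp [hge]⟩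
  obtain ⟨U, hUX, hU, hUn, hU0⟩ := hex X hXE hX hXn hlt
  set Y := perp B U ⊓ X
  have hY : Inv L Y := (inv_perp hinj hB hU).inf hX
  have hUY : U ≤ Y := le_inf (fun v hv => mem_perp.2 fun w hw => hUn w hw v hv) hUX
  obtain ⟨X', hX'Y, hX', hdis, hsup, hfin⟩ := hs.exists_rel hU hY hUY
  let U' : Submodule F X := U.comap X.subtype
  have hYperp : Y.comap X.subtype = perp (restrictForm B X) U' := by
    ext v
    rw [Submodule.mem_comap, mem_perp]
    exact ⟨fun hv w hw => mem_perp.1 hv.1 _ hw, fun hv => ⟨mem_perp.2 fun w hw => hv ⟨w, hUX hw⟩ hw, v.2⟩⟩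
  have hdim : finrank F X ≤ finrank F Y + finrank F U := by
    have h1 := finrank_le_finrank_perp_add (restrictForm B X) U'
    rw [← hYperp, (Submodule.comapSubtypeEquivOfLe (inf_le_right : Y ≤ X)).finrank_eq,
      (Submodule.comapSubtypeEquivOfLe hUX).finrank_eq] at h1
    exact h1
  have hX'n : NondegOn B X' := nondegOn_iff.2 fun x hx hx' => by
    have hxY := hX'Y hx
    have h1 : (⟨x, hxY.2⟩ : X) ∈ perp (restrictForm B X) (perp (restrictForm B X) U') := mem_perp.2 fun y hy => by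
      rw [← hYperp, Submodule.mem_comap, ← hsup] at hy
      obtain ⟨a, ha, c, hc, hac⟩ := Submodule.mem_sup.1 hy
      show B (y : V) x = 0
      rw [show (y : V) = a + c from hac.symm, map_add, LinearMap.add_apply, mem_perp.1 hxY.1 a ha, hx' c hc, add_zero]
    rw [(h.restrict X).perp_perp_herm (restrictForm_separatingRight hXn)] at h1
    exact Submodule.disjoint_def.1 hdis _ h1 hx
  have hUpos : 0 < finrank F U := Nat.pos_of_ne_zero fun h0 => hU0 (Submodule.finrank_eq_zero.1 h0)
  have hlt' : finrank F X' < n := by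
    have : finrank F Y ≤ finrank F X := Submodule.finrank_mono inf_le_right
    omega
  obtain ⟨W, hWX', hW, hWn, hWd⟩ := ih _ hlt' X' ((hX'Y.trans inf_le_right).trans hXE) hX' hX'n rfl
  have hperp : ∀ u ∈ U, ∀ w ∈ W, B u w = 0 := fun u hu w hw => mem_perp.1 (hX'Y (hWX' hw)).1 u hu
  refine ⟨U ⊔ W, sup_le hUX ((hWX'.trans hX'Y).trans inf_le_right), hU.sup hW, hUn.sup h hWn hperp, ?_⟩
  rw [finrank_sup_of_disjoint (hdis.mono_right hWX')]
  omega

theorem exists_nondeg_fixed (h : IsHermitian B) {C : Submodule F V} (hC : NondegOn B C) {x : ℕ}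
    (hx : x ≤ finrank F C) :
    ∃ P : Submodule F V, P ≤ C ∧ NondegOn B P ∧ finrank F P = x := by
  obtain ⟨P, hP, -, hPn, hPd⟩ := (exists_pieces (L := (1 : Module.End F V)) h Function.injective_id
    (fun _ _ => rfl) one_pos (E := C) (fun X _ _ hXn hne => by
      obtain ⟨z, hz, hzz⟩ := h.exists_unit_in hXn
        (Nat.pos_of_ne_zero fun h0 => hne (Submodule.finrank_eq_zero.1 h0)) (map_one σ)
      exact ⟨Submodule.span F {z}, (Submodule.span_singleton_le_iff_mem _ _).2 hz, Inv.of_mem fun u hu => hu,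
        h.nondegOn_span_singleton (by rw [hzz]; exact one_ne_zero),
        finrank_span_singleton fun e => by simp [e] at hzz⟩)
    le_rfl (Inv.of_mem fun u hu => hu) hC).2 x (by rwa [mul_one])
  exact ⟨P, hP, hPn, hPd.trans (mul_one x)⟩

theorem exists_null_fixed (h : IsHermitian B) {C : Submodule F V} (hC : NondegOn B C) {x : ℕ}
    (hx : 2 * x ≤ finrank F C) :
    ∃ U : Submodule F V, U ≤ C ∧ Null B U ∧ finrank F U = x := by
  obtain ⟨W, hWC, -, hWn, hWd⟩ := exists_null_large (L := (1 : Module.End F V)) h (fun _ _ => rfl)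
    Function.injective_id
    (fun U _ => by obtain ⟨W, hW⟩ := exists_isCompl U; exact ⟨W, Inv.of_mem (fun u hu => hu), hW⟩)
    (E := C) (s := 1) (fun X _ _ hXn hlt => by
      obtain ⟨v, hv, hv0, hvv⟩ := h.exists_isotropic hXn hlt
      refine ⟨Submodule.span F {v}, (Submodule.span_singleton_le_iff_mem _ _).2 hv, Inv.of_mem fun u hu => hu,
        fun a ha b hb => ?_, by simpa using hv0⟩
      obtain ⟨s, rfl⟩ := Submodule.mem_span_singleton.1 ha
      obtain ⟨t, rfl⟩ := Submodule.mem_span_singleton.1 hb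
      simp [map_smulₛₗ, hvv])
    (Inv.of_mem fun u hu => hu) hC
  obtain ⟨U, hU, hUd⟩ := exists_le_finrank W (show x ≤ finrank F W by omega)
  exact ⟨U, hU.trans hWC, hWn.mono hU, hUd⟩

theorem norm_of_scalar {q : ℕ} (h : IsHermitian B) (hN : B.SeparatingRight) [Nontrivial V]
    (hσ : ∀ x, σ x = x ^ q) (hB : ∀ x y, B (L x) (L y) = B x y) {z : F} {j : ℕ}
    (hz : L ^ j = algebraMap F (Module.End F V) z) : z ^ (q + 1) = 1 := by
  obtain ⟨x, hx⟩ := h.exists_unit hN
  have h1 : ∀ i : ℕ, B ((L ^ i) x) ((L ^ i) x) = 1 := fun i => by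
    induction i with
    | zero => simpa using hx
    | succ i ih => rw [pow_succ', Module.End.mul_apply, hB, ih]
  have h2 := h1 j
  rw [hz, Module.algebraMap_end_apply, h.smul_self, hx, mul_one, hσ, ← pow_succ'] at h2
  exact h2

theorem isom_smul {q : ℕ} (hσ : ∀ x, σ x = x ^ q) (hB : ∀ x y, B (L x) (L y) = B x y) {w : F}
    (hw : w ^ (q + 1) = 1) (x y : V) : B ((w • L) x) ((w • L) y) = B x y := by
  simp only [LinearMap.smul_apply, map_smulₛₗ, RingHom.id_apply, smul_eq_mul, hσ, hB]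
  rw [← mul_assoc, ← pow_succ', hw, one_mul]

/-- Scale away an `r`-th root of the scalar. -/
theorem exists_scaled_root {q r : ℕ} (hσ : ∀ x, σ x = x ^ q) (hB : ∀ x y, B (L x) (L y) = B x y) {w : F}
    (hw : w ^ (q + 1) = 1) (hL : L ^ r = algebraMap F (Module.End F V) (w ^ r)) :
    ∃ M : Module.End F V, M ^ r = 1 ∧ (∀ x y, B (M x) (M y) = B x y) ∧ ∀ U, Inv M U → Inv L U := by
  have hw0 : w ≠ 0 := fun h0 => by rw [h0, zero_pow (by omega)] at hw; exact zero_ne_one hw
  refine ⟨w⁻¹ • L, ?_, isom_smul hσ hB (by rw [inv_pow, hw, inv_one]), fun U hU => (inv_smul (inv_ne_zero hw0)).1 hU⟩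
  rw [smul_pow, hL, Algebra.algebraMap_eq_smul_one, smul_smul, ← mul_pow, inv_mul_cancel₀ hw0, one_pow, one_smul]

end Forms

section Conversion

variable {F : Type*} [Field F] {n q : ℕ} {σ : F →+* F}

theorem hermForm_swap (hσ : ∀ x, σ x = x ^ q) {W : Submodule F (Fin n → F)} :
    (∀ u ∈ W, ∀ v ∈ W, Cfsg.hermForm n F q u v = 0) ↔ Null (stdHerm σ n) W := by
  refine ⟨fun h u hu v hv => ?_, fun h u hu v hv => ?_⟩
  · rw [← hermForm_eq_stdHerm hσ]; exact h v hv u hu
  · rw [hermForm_eq_stdHerm hσ]; exact h v hv u hu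

theorem hermForm_nondeg (hσ : ∀ x, σ x = x ^ q) {W : Submodule F (Fin n → F)} :
    (∀ u ∈ W, u ≠ 0 → ∃ v ∈ W, Cfsg.hermForm n F q u v ≠ 0) ↔ NondegOn (stdHerm σ n) W := by
  rw [nondegOn_iff]
  simp only [hermForm_eq_stdHerm hσ]
  refine ⟨fun h x hx hx' => ?_, fun h u hu hu0 => ?_⟩
  · by_contra h0
    obtain ⟨v, hv, hne⟩ := h x hx h0
    exact hne (hx' v hv)
  · by_contra! hcon
    exact hu0 (h u hu hcon)

/-- Quantifying over special unitary matrices is quantifying over isometries of determinant one. -/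
theorem forall_su_iff (hσ : ∀ x, σ x = x ^ q) {r : ℕ} (Φ : Module.End F (Fin n → F) → Prop) :
    (∀ x : Matrix.SpecialLinearGroup (Fin n) F, x ∈ Cfsg.SU n F q →
      (∃ z : F, ((x ^ r : Matrix.SpecialLinearGroup (Fin n) F) : Matrix (Fin n) (Fin n) F) =
        z • (1 : Matrix (Fin n) (Fin n) F)) →
      (∀ z : F, (x : Matrix (Fin n) (Fin n) F) ≠ z • (1 : Matrix (Fin n) (Fin n) F)) →
      Φ (Matrix.toLin' (x : Matrix (Fin n) (Fin n) F))) ↔
    (∀ L : Module.End F (Fin n → F), LinearMap.det L = 1 →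
      (∀ u v, stdHerm σ n (L u) (L v) = stdHerm σ n u v) → ∀ z : F,
      L ^ r = algebraMap F (Module.End F (Fin n → F)) z →
      (∀ z : F, L ≠ algebraMap F (Module.End F (Fin n → F)) z) → Φ L) := by
  have key : ∀ (M : Matrix (Fin n) (Fin n) F) (c : F),
      M = c • (1 : Matrix (Fin n) (Fin n) F) ↔
        (Matrix.toLinAlgEquiv' M : Module.End F (Fin n → F)) = algebraMap F _ c := fun M c => by
    rw [← Matrix.toLinAlgEquiv'.injective.eq_iff, Algebra.algebraMap_eq_smul_one, map_smul, map_one]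
  constructor
  · intro h L hdet hB c hc hns
    obtain ⟨M, rfl⟩ := (Matrix.toLinAlgEquiv' (R := F) (n := Fin n)).surjective L
    have hM : M.det = 1 := by rw [← LinearMap.det_toLin']; exact hdet
    refine h ⟨M, hM⟩ ?_ ⟨c, ?_⟩ fun z hz => hns z ((key M z).1 hz)
    · exact (mem_GU_iff hσ (g := Matrix.SpecialLinearGroup.toGL ⟨M, hM⟩)).2 fun u v => hB u v
    show M ^ r = _
    exact (key _ c).2 ((map_pow _ _ _).trans hc)
  · rintro h ⟨M, hM⟩ hSU ⟨c, hc⟩ hns
    refine h (Matrix.toLinAlgEquiv' M) ((LinearMap.det_toLin' M).trans hM) (fun u v => ?_) c ?_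
      fun z hz => hns z ((key M z).2 hz)
    · exact (mem_GU_iff hσ (g := Matrix.SpecialLinearGroup.toGL ⟨M, hM⟩)).1 hSU u v
    have hc' : M ^ r = c • (1 : Matrix (Fin n) (Fin n) F) := hc
    rw [← map_pow]
    exact (key _ c).1 hc'

end Conversion

end CfsgLib.Derangements.UnitElusive
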