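import Cfsg.Agent.Lib.Derangements.UnitaryElusive.Basic

/-!
# Prime divisors of unitary groups and of the numbers of null and non-degenerate subspaces
-/

set_option autoImplicit false
set_option linter.unusedSectionVars false

namespace CfsgLib.Derangements.UnitElusive

open Module CfsgLib.Classical

/-- The factors in the order of a unitary group. -/
def unitFac (q j : ℕ) : ℕ := if Even j then q ^ (j + 1) + 1 else q ^ (j + 1) - 1

theorem unitFac_cast {q r j : ℕ} (hq : 1 ≤ q) :
    (unitFac q j : ZMod r) = (-1) ^ j * (1 - (-(q : ZMod r)) ^ (j + 1)) := by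
  unfold unitFac
  rcases Nat.even_or_odd j with he | ho
  · rw [if_pos he, he.neg_one_pow, he.add_one.neg_pow]
    push_cast
    ring
  · rw [if_neg (Nat.not_even_iff_odd.2 ho), ho.neg_one_pow, ho.add_one.neg_pow]
    rw [Nat.cast_sub (Nat.one_le_pow _ _ hq)]
    push_cast
    ring

theorem dvd_unitFac_iff {q r j : ℕ} [Fact r.Prime] (hq : 1 ≤ q) :
    r ∣ unitFac q j ↔ orderOf (-(q : ZMod r)) ∣ j + 1 := by
  rw [← ZMod.natCast_eq_zero_iff, unitFac_cast hq, mul_eq_zero, orderOf_dvd_iff_pow_eq_one,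
    or_iff_right (pow_ne_zero _ (neg_ne_zero.2 one_ne_zero)), sub_eq_zero]
  exact eq_comm

theorem char_not_dvd_unitFac {p k j : ℕ} (hp : p.Prime) (hk : 0 < k) : ¬ p ∣ unitFac (p ^ k) j := by
  intro h
  have h1 : p ∣ (p ^ k) ^ (j + 1) := by rw [← pow_mul]; exact dvd_pow_self p (Nat.mul_ne_zero hk.ne' (by omega))
  unfold unitFac at h
  split_ifs at h with hev
  · exact hp.not_dvd_one ((Nat.dvd_add_right h1).1 h)
  · have h2 := Nat.dvd_sub h1 h
    rw [Nat.sub_sub_self (Nat.one_le_pow _ _ (Nat.one_le_pow _ _ hp.pos))] at h2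
    exact hp.not_dvd_one h2

theorem unitFac_pos {q j : ℕ} (hq : 2 ≤ q) : 0 < unitFac q j := by
  unfold unitFac
  split_ifs
  · omega
  · have := Nat.one_lt_pow (show j + 1 ≠ 0 by omega) (show 1 < q by omega)
    omega

variable {F : Type*} [Field F] [Fintype F] {V : Type*} [AddCommGroup V] [Module F V] [FiniteDimensional F V]
  {σ : F →+* F} {B : V →ₛₗ[σ] V →ₗ[F] F} {q r : ℕ} [Fact r.Prime]

theorem card_isom_fac (hF : Fintype.card F = q ^ 2) (hσ : ∀ x, σ x = x ^ q) (h : IsHermitian B)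
    (hN : B.SeparatingRight) :
    Nat.card (isomGroup B) = q ^ (finrank F V * (finrank F V - 1) / 2) *
      ∏ j ∈ Finset.range (finrank F V), unitFac q j :=
  card_isom_herm_closed hF hσ h hN

/-- A prime different from the characteristic dividing the order of the isometry group. -/
theorem exists_exp_of_dvd (hF : Fintype.card F = q ^ 2) (hσ : ∀ x, σ x = x ^ q) (h : IsHermitian B)
    (hN : B.SeparatingRight) (hrq : (q : ZMod r) ≠ 0) (hd : r ∣ Nat.card (isomGroup B)) :
    ∃ j, 0 < j ∧ j ≤ finrank F V ∧ orderOf (-(q : ZMod r)) ∣ j := by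
  have hrp : r.Prime := Fact.out
  rw [card_isom_fac hF hσ h hN] at hd
  rcases hrp.dvd_mul.1 hd with h1 | h1
  · exact absurd ((ZMod.natCast_eq_zero_iff _ _).2 (hrp.dvd_of_dvd_pow h1)) hrq
  · obtain ⟨j, hj, hj1⟩ := (hrp.prime.dvd_finset_prod_iff _).1 h1
    rw [Finset.mem_range] at hj
    exact ⟨j + 1, by omega, by omega,
      (dvd_unitFac_iff (by have := two_le_of_card_sq hF; omega)).1 hj1⟩

/-- An isometry of order `r` needs room. -/
theorem exists_exp_of_isom (hF : Fintype.card F = q ^ 2) (hσ : ∀ x, σ x = x ^ q) (h : IsHermitian B)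
    (hN : B.SeparatingRight) (hrq : (q : ZMod r) ≠ 0) {L : Module.End F V}
    (hB : ∀ x y, B (L x) (L y) = B x y) (hL : L ^ r = 1) (hne : L ≠ 1) :
    ∃ j, 0 < j ∧ j ≤ finrank F V ∧ orderOf (-(q : ZMod r)) ∣ j := by
  have hinj := injective_of_isom hN hB
  let g : isomGroup B := ⟨LinearEquiv.ofBijective L ⟨hinj, LinearMap.injective_iff_surjective.1 hinj⟩, hB⟩
  have hg : ∀ (i : ℕ) (x : V), (g ^ i).1 x = (L ^ i) x := fun i => by
    induction i with
    | zero => intro x; simp
    | succ i ih =>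
      intro x
      rw [pow_succ', pow_succ', Module.End.mul_apply, ← ih]
      rfl
  have hord : orderOf g = r := orderOf_eq_prime (Subtype.ext (LinearEquiv.ext fun x => by
    rw [hg, hL]; rfl)) fun h1 => hne (LinearMap.ext fun x => by
    have := hg 1 x
    rw [pow_one, pow_one, h1] at this
    exact this.symm)
  haveI : Finite V := Module.finite_of_finite F
  exact exists_exp_of_dvd hF hσ h hN hrq (hord ▸ orderOf_dvd_natCard g)

theorem card_null_mul (hF : Fintype.card F = q ^ 2) (hσ : ∀ x, σ x = x ^ q) (h : IsHermitian B)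
    (hN : B.SeparatingRight) {m : ℕ} (hm : 2 * m ≤ finrank F V) :
    Nat.card {W : Submodule F V // finrank F W = m ∧ Null B W} *
        ∏ i : Fin m, (Fintype.card F ^ (m - i.1) - 1) =
      ∏ j ∈ Finset.Ico (finrank F V - 2 * m) (finrank F V), unitFac q j := by
  obtain ⟨d, hd⟩ := Nat.exists_eq_add_of_le hm
  have hq := two_le_of_card_sq hF
  have h1 := card_isom_tsub hF hσ h hN (k := m) (d := d) hd
  have hord : hermOrder σ d = q ^ (d * (d - 1) / 2) * ∏ j ∈ Finset.range d, unitFac q j := by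
    rw [hermOrder, Finset.prod_congr rfl fun i _ => lengthCount_one hF hσ h.conj i, Finset.prod_mul_distrib,
      Finset.prod_pow_eq_pow_sum, Finset.sum_range_id]
    rfl
  have hprod : ∏ i : Fin m, ((q ^ 2) ^ m - (q ^ 2) ^ (i : ℕ)) =
      q ^ (m * (m - 1)) * ∏ i : Fin m, (Fintype.card F ^ (m - i.1) - 1) := by
    rw [hF, ← Finset.sum_range_id_mul_two, mul_comm _ 2, pow_mul, ← Fin.sum_univ_eq_sum_range,
      ← Finset.prod_pow_eq_pow_sum, ← Finset.prod_mul_distrib]
    refine Finset.prod_congr rfl fun i _ => ?_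
    rw [Nat.mul_sub_one, ← pow_add, Nat.add_sub_cancel' i.2.le]
  rw [card_isom_fac hF hσ h hN, hord, hprod, ← Finset.prod_range_mul_prod_Ico _ (show d ≤ finrank F V by omega)] at h1
  have hexp : finrank F V * (finrank F V - 1) / 2 = m * (m + 2 * d) + m * (m - 1) + d * (d - 1) / 2 := by
    rw [hd]
    rcases Nat.eq_zero_or_pos m with rfl | hm0
    · simp
    obtain ⟨m', rfl⟩ : ∃ m', m = m' + 1 := ⟨m - 1, by omega⟩
    have key : (2 * (m' + 1) + d) * (2 * (m' + 1) + d - 1) =
        2 * ((m' + 1) * (m' + 1 + 2 * d) + (m' + 1) * m') + d * (d - 1) := by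
      rw [show 2 * (m' + 1) + d - 1 = 2 * m' + 1 + d by omega]
      rcases d with _ | d
      · simp; ring
      · rw [Nat.add_sub_cancel]; ring
    rw [key, Nat.mul_add_div two_pos, Nat.add_sub_cancel]
  have hpos : 0 < q ^ (finrank F V * (finrank F V - 1) / 2) * ∏ j ∈ Finset.range d, unitFac q j :=
    Nat.mul_pos (pow_pos (by omega) _) (Finset.prod_pos fun j _ => unitFac_pos hq)
  refine (Nat.eq_of_mul_eq_mul_left hpos ?_).symm
  rw [show finrank F V - 2 * m = d by omega]
  refine Eq.trans (by ring) (h1.trans ?_)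
  rw [hexp, pow_add, pow_add]
  show Nat.card (TSub B m) * _ = _ * (Nat.card (TSub B m) * _)
  ring

/-- Prime divisors of the number of null subspaces. -/
theorem null_count_facts (hF : Fintype.card F = q ^ 2) (hσ : ∀ x, σ x = x ^ q) (h : IsHermitian B)
    (hN : B.SeparatingRight) {m : ℕ} (hm : 2 * m ≤ finrank F V)
    (hd : r ∣ Nat.card {W : Submodule F V // finrank F W = m ∧ Null B W}) :
    (q : ZMod r) ≠ 0 ∧ ∃ j, finrank F V - 2 * m < j ∧ j ≤ finrank F V ∧ orderOf (-(q : ZMod r)) ∣ j := by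
  have hrp : r.Prime := Fact.out
  have hq := two_le_of_card_sq hF
  obtain ⟨j, hj, hj1⟩ := (hrp.prime.dvd_finset_prod_iff _).1 (card_null_mul hF hσ h hN hm ▸ hd.mul_right _)
  rw [Finset.mem_Ico] at hj
  refine ⟨fun h0 => ?_, j + 1, by omega, by omega, (dvd_unitFac_iff (by omega)).1 hj1⟩
  obtain ⟨p, hpc⟩ := CharP.exists F
  obtain ⟨n, hp, hn⟩ := FiniteField.card F p
  obtain ⟨k, -, hk⟩ := (Nat.dvd_prime_pow hp).1 (show q ∣ p ^ (n : ℕ) by rw [← hn, hF]; exact dvd_pow_self q two_ne_zero)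
  rw [ZMod.natCast_eq_zero_iff, hk] at h0
  obtain rfl : r = p := (Nat.prime_dvd_prime_iff_eq hrp hp).1 (hrp.dvd_of_dvd_pow h0)
  refine char_not_dvd_unitFac hp (Nat.pos_of_ne_zero fun hk0 => ?_) (hk ▸ hj1)
  rw [hk0, pow_zero] at hk
  omega

theorem nondeg_count_facts (hF : Fintype.card F = q ^ 2) (hσ : ∀ x, σ x = x ^ q) (h : IsHermitian B)
    (hN : B.SeparatingRight) {m : ℕ} (hm : m ≤ finrank F V) (hrq : (q : ZMod r) ≠ 0)
    (hd : r ∣ Nat.card {W : Submodule F V // finrank F W = m ∧ NondegOn B W}) :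
    ∃ j, finrank F V - m < j ∧ j ≤ finrank F V ∧ orderOf (-(q : ZMod r)) ∣ j := by
  haveI : Finite V := Module.finite_of_finite F
  have hrp : r.Prime := Fact.out
  have hq := two_le_of_card_sq hF
  obtain ⟨P, -, hP, hPd⟩ := exists_nondeg_fixed h (nondegOn_top hN) (x := m) (by rwa [finrank_top])
  have hact : ∀ g : isomGroup B, finrank F (P.map (g.1 : V →ₗ[F] V)) = m ∧ NondegOn B (P.map (g.1 : V →ₗ[F] V)) := by
    refine fun g => ⟨(g.1.finrank_map_eq P).trans hPd, ?_⟩
    refine nondegOn_iff.2 ?_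
    rintro _ ⟨x, hx, rfl⟩ hx'
    have h0 : x = 0 := nondegOn_iff.1 hP x hx fun w hw => (g.2 w x).symm.trans (hx' _ ⟨w, hw, rfl⟩)
    rw [h0, map_zero]
  let φ : isomGroup B → {W : Submodule F V // finrank F W = m ∧ NondegOn B W} := fun g => ⟨_, hact g⟩
  have hsurj : Function.Surjective φ := by
    rintro ⟨W, hWd, hW⟩
    obtain ⟨e, he⟩ := (h.restrict P).exists_isometry (h.restrict W) (restrictForm_separatingRight hP)
      (restrictForm_separatingRight hW) (hPd.trans hWd.symm)
    obtain ⟨g, hg⟩ := h.witt hN P (W.subtype.comp e.toLinearMap)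
      (Subtype.val_injective.comp e.injective) fun a b => he a b
    refine ⟨g, Subtype.ext (Submodule.eq_of_le_of_finrank_eq ?_ ((hact g).1.trans hWd.symm))⟩
    rintro _ ⟨x, hx, rfl⟩
    have : g.1 x = (e ⟨x, hx⟩ : V) := hg ⟨x, hx⟩
    exact this ▸ (e ⟨x, hx⟩).2
  have hcard : Nat.card (isomGroup B) =
      Nat.card {W : Submodule F V // finrank F W = m ∧ NondegOn B W} * Nat.card (isomStab B P) := by
    letI : MulAction (isomGroup B) (Submodule F V) :=
      MulAction.compHom _ (show isomGroup B →* Equiv.Perm (Submodule F V) from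
        { toFun := fun g => (Submodule.orderIsoMapComap g.1).toEquiv
          map_one' := Equiv.ext fun W => Submodule.map_id W
          map_mul' := fun a b => Equiv.ext fun W => Submodule.map_comp (b.1 : V →ₗ[F] V) (a.1 : V →ₗ[F] V) W })
    have hstab : MulAction.stabilizer (isomGroup B) P = isomStab B P := by ext g; rfl
    have horb : MulAction.orbit (isomGroup B) P = {W : Submodule F V | finrank F W = m ∧ NondegOn B W} := by
      ext W
      constructor
      · rintro ⟨g, rfl⟩; exact hact g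
      · rintro ⟨hWd, hW⟩
        obtain ⟨g, hg⟩ := hsurj ⟨W, hWd, hW⟩
        exact ⟨g, congrArg Subtype.val hg⟩
    rw [← hstab, ← (MulAction.stabilizer (isomGroup B) P).card_mul_index, MulAction.index_stabilizer, horb,
      mul_comm]
    rfl
  have hp := hP.finrank_perp
  rw [← Nat.card_congr (isomStabEquiv h.isRefl hP).toEquiv, Nat.card_prod,
    card_isom_fac hF hσ (h.restrict P) (restrictForm_separatingRight hP),
    card_isom_fac hF hσ (h.restrict _) (restrictForm_separatingRight (nondegOn_perp hN hP)),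
    card_isom_fac hF hσ h hN, hPd, show finrank F (perp B P) = finrank F V - m by omega,
    ← Finset.prod_range_mul_prod_Ico _ (Nat.sub_le (finrank F V) m)] at hcard
  set N := Nat.card {W : Submodule F V // finrank F W = m ∧ NondegOn B W}
  have hpos : 0 < ∏ j ∈ Finset.range (finrank F V - m), unitFac q j := Finset.prod_pos fun j _ => unitFac_pos hq
  have heq : q ^ (finrank F V * (finrank F V - 1) / 2) * ∏ j ∈ Finset.Ico (finrank F V - m) (finrank F V), unitFac q j =
      N * (q ^ (m * (m - 1) / 2) * (∏ j ∈ Finset.range m, unitFac q j) *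
        q ^ ((finrank F V - m) * (finrank F V - m - 1) / 2)) := by
    refine Nat.eq_of_mul_eq_mul_left hpos (Eq.trans (by ring) (hcard.trans (by ring)))
  rcases hrp.dvd_mul.1 (heq ▸ hd.mul_right _) with h1 | h1
  · exact absurd ((ZMod.natCast_eq_zero_iff _ _).2 (hrp.dvd_of_dvd_pow h1)) hrq
  · obtain ⟨j, hj, hj1⟩ := (hrp.prime.dvd_finset_prod_iff _).1 h1
    rw [Finset.mem_Ico] at hj
    exact ⟨j + 1, by omega, by omega, (dvd_unitFac_iff (by omega)).1 hj1⟩

end CfsgLib.Derangements.UnitElusive
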