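import Cfsg.Agent.Lib.Derangements.UnitaryElusive.Selfpaired
import Cfsg.Agent.Lib.Derangements.UnitaryElusive.Count

/-!
# Invariant null and non-degenerate subspaces for unitary maps of odd prime order
-/

set_option autoImplicit false
set_option linter.unusedSectionVars false

namespace CfsgLib.Derangements.UnitElusive

open Module Polynomial CfsgLib.Classical CfsgLib.Derangements.LinElusive

variable {F : Type*} [Field F] [Fintype F] {V : Type*} [AddCommGroup V] [Module F V] [FiniteDimensional F V]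
  {σ : F →+* F} {B : V →ₛₗ[σ] V →ₗ[F] F} {L : Module.End F V} {q r : ℕ} [Fact r.Prime]

theorem orderOf_card_eq (hF : Fintype.card F = q ^ 2) :
    orderOf (Fintype.card F : ZMod r) = orderOf ((q ^ 2 : ℕ) : ZMod r) := by rw [hF]

theorem pow_mul_self_eq_one (hL : L ^ r = 1) {b : ℕ} (hqb : (q : ZMod r) ^ b = -1) : L ^ (q ^ b) * L = 1 := by
  obtain ⟨k, hk⟩ : r ∣ q ^ b + 1 := by
    rw [← ZMod.natCast_eq_zero_iff]
    push_cast
    rw [hqb, neg_add_cancel]
  rw [← pow_succ, hk, pow_mul, hL, one_pow]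

/-- The kernel of a factor is non-degenerate in the self-paired case. -/
theorem nondegOn_ker_factor (hF : Fintype.card F = q ^ 2) (hσ : ∀ x, σ x = x ^ q)
    (hB : ∀ x y, B (L x) (L y) = B x y) {b : ℕ} (hb : Odd b) (hLe : L ^ (q ^ b) * L = 1) {X : Submodule F V}
    (hX : Inv L X) (hXn : NondegOn B X) {g h : F[X]} (hco : IsCoprime g h)
    (hXgh : ∀ x ∈ X, aeval L (g * h) x = 0) : NondegOn B (X ⊓ LinearMap.ker (aeval L g)) := by
  refine nondegOn_iff.2 fun x hx hx' => nondegOn_iff.1 hXn x hx.1 fun y hy => ?_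
  obtain ⟨a, c, hac⟩ := hco
  have hy' : y = aeval L (a * g) y + aeval L (c * h) y := by
    rw [← LinearMap.add_apply, ← map_add, hac, map_one, Module.End.one_apply]
  rw [hy', map_add, LinearMap.add_apply]
  have h1 : B (aeval L (a * g) y) x = 0 := by
    rw [aeval_adjoint hF hσ hB hb hLe]
    obtain ⟨d, hd⟩ : g ∣ (a * g) ^ (q ^ b) := (dvd_mul_left g a).trans (dvd_pow_self _ (pow_ne_zero _ (by
      have := two_le_of_card_sq hF; omega)))
    rw [hd, mul_comm, map_mul, Module.End.mul_apply]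
    have hgx : aeval L g x = 0 := hx.2
    rw [hgx, map_zero, map_zero]
  have h2 : B (aeval L (c * h) y) x = 0 := hx' _ ⟨hX.aeval_mem _ hy, by
    rw [SetLike.mem_coe, LinearMap.mem_ker, ← Module.End.mul_apply, ← map_mul, mul_left_comm, map_mul,
      Module.End.mul_apply, hXgh y hy, map_zero]⟩
  rw [h1, h2, add_zero]

theorem coprime_cofactor {S : Finset F[X]} (hS : ∀ g ∈ S, Irreducible g ∧ g.Monic) {g : F[X]} (hg : g ∈ S)
    [DecidableEq F[X]] : IsCoprime g (∏ f ∈ S.erase g, f) :=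
  IsCoprime.prod_right fun f hf => (hS g hg).1.coprime_iff_not_dvd.2 fun hd =>
    Finset.ne_of_mem_erase hf (eq_of_monic_of_associated (hS f (Finset.mem_of_mem_erase hf)).2 (hS g hg).2
      ((hS g hg).1.associated_of_dvd (hS f (Finset.mem_of_mem_erase hf)).1 hd).symm)

/-- In the self-paired case some factor carries a non-degenerate part of more than average dimension. -/
theorem exists_factor_part (hF : Fintype.card F = q ^ 2) (hσ : ∀ x, σ x = x ^ q)
    (hB : ∀ x y, B (L x) (L y) = B x y) (hr : (r : F) ≠ 0) (hL : L ^ r = 1) {E : Submodule F V}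
    (hd : Disjoint (L.eigenspace 1) E) {b : ℕ} (hu : Uniform L E b) (hbo : b = orderOf (Fintype.card F : ZMod r))
    (hb : Odd b) (hqb : (q : ZMod r) ^ b = -1) {X : Submodule F V} (hXE : X ≤ E) (hX : Inv L X)
    (hXn : NondegOn B X) {t : ℕ} (ht : t * (r - 1) < finrank F X * b) :
    ∃ g : F[X], Irreducible g ∧ g.Monic ∧ g.natDegree = b ∧
      NondegOn B (X ⊓ LinearMap.ker (aeval L g)) ∧
      t < finrank F (X ⊓ LinearMap.ker (aeval L g) : Submodule F V) := by
  classical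
  obtain ⟨S, hScard, hSprod, hS⟩ := NullInv.exists_factors (F := F) (r := r) hr
  rw [← hbo] at hScard
  have hker := hXE.trans (NullInv.le_ker_cyclotomic hL hu.inv hd)
  obtain ⟨g, hg, hgt⟩ : ∃ g ∈ S, t < finrank F (X ⊓ LinearMap.ker (aeval L g) : Submodule F V) := by
    by_contra! hcon
    have h1 := NullInv.finrank_ker_prod_le (L := L) hX S
    rw [hSprod, inf_eq_left.2 hker] at h1
    have h2 : finrank F X ≤ S.card * t := h1.trans (by simpa using Finset.sum_le_card_nsmul S _ t hcon)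
    have h3 := Nat.mul_le_mul_right b h2
    rw [← hScard, show t * (S.card * b) = S.card * t * b by ring] at ht
    omega
  refine ⟨g, (hS g hg).1, (hS g hg).2.1, hbo ▸ (hS g hg).2.2.1, ?_, hgt⟩
  refine nondegOn_ker_factor hF hσ hB hb (pow_mul_self_eq_one hL hqb) hX hXn
    (coprime_cofactor (fun f hf => ⟨(hS f hf).1, (hS f hf).2.1⟩) hg) fun x hx => ?_
  rw [Finset.mul_prod_erase S (fun f => f) hg, hSprod]
  exact hker hx

/-- Pieces of the moved part. -/
theorem exists_piece_moved (hF : Fintype.card F = q ^ 2) (hσ : ∀ x, σ x = x ^ q) (h : IsHermitian B)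
    (hN : B.SeparatingRight) (hB : ∀ x y, B (L x) (L y) = B x y) (hr : (r : F) ≠ 0) (hL : L ^ r = 1)
    {E : Submodule F V} (hd : Disjoint (L.eigenspace 1) E) (hs : Split L) {b c : ℕ} (hu : Uniform L E b)
    (hbo : b = orderOf (Fintype.card F : ZMod r)) (hco : c = orderOf (-(q : ZMod r)))
    (hcase : c = 2 * b ∨ (Odd b ∧ (q : ZMod r) ^ b = -1 ∧ c = b))
    {X : Submodule F V} (hXE : X ≤ E) (hX : Inv L X) (hXn : NondegOn B X) (hne : X ≠ ⊥) :
    ∃ P : Submodule F V, P ≤ X ∧ Inv L P ∧ NondegOn B P ∧ finrank F P = c := by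
  have hinj := injective_of_isom hN hB
  have hpos : ∀ {U : Submodule F V}, U ≠ ⊥ → 0 < finrank F U := fun hU =>
    Nat.pos_of_ne_zero fun h0 => hU (Submodule.finrank_eq_zero.1 h0)
  rcases hcase with hc | ⟨hb, hqb, rfl⟩
  swap
  · obtain ⟨g, hgi, hgm, hgd, hKn, hKt⟩ := exists_factor_part hF hσ hB hr hL hd hu hbo hb hqb hXE hX hXn (t := 0)
      (by rw [zero_mul]; exact Nat.mul_pos (hpos hne) hu.pos)
    obtain ⟨u, -, -, hP, hPn, hPd⟩ := exists_piece_selfpaired h hinj hB hgm (fun x hx => (Submodule.mem_inf.1 hx).2)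
      (fun U hU hUi => hgd ▸ hu.dvd U (hU.trans (inf_le_left.trans hXE)) hUi) (hX.inf (NullInv.inv_ker g)) hKn
      (fun h0 => by rw [h0, finrank_bot] at hKt; exact lt_irrefl _ hKt)
    exact ⟨_, hP.trans inf_le_left, inv_cyc u, hPn, hgd ▸ hPd⟩
  obtain ⟨U, hUX, hU, hUd⟩ := hu.exists_le X hXE hX hne
  have hUne : U ≠ ⊥ := fun h0 => by rw [h0, finrank_bot] at hUd; exact hu.pos.ne hUd
  have hUn : Null B U := by
    rcases eq_or_ne (U ⊓ perp B U) ⊥ with h0 | h0
    · exfalso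
      have hUnd : NondegOn B U := disjoint_iff.2 h0
      let M : Module.End F U := L.restrict fun u hu' => hU.mem hu'
      obtain ⟨j, hj0, hj, hjd⟩ := exists_exp_of_isom hF hσ (h.restrict U) (restrictForm_separatingRight hUnd)
        ((natCast_ne_zero_iff hF).1 hr) (L := M) (fun x y => hB _ _) (LinearMap.ext fun x => Subtype.ext (by
          rw [Module.End.pow_restrict]
          simp [hL]))
        (fun hM => hUne (eq_bot_iff.2 fun x hx => Submodule.disjoint_def.1 hd x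
          (by rw [Module.End.mem_eigenspace_iff, one_smul]; exact congrArg Subtype.val (LinearMap.congr_fun hM ⟨x, hx⟩))
          (hXE (hUX hx))))
      rw [← hco] at hjd
      have := Nat.le_of_dvd hj0 hjd
      have := hu.pos
      omega
    · have hle : b ≤ finrank F (U ⊓ perp B U : Submodule F V) := Nat.le_of_dvd (hpos h0)
        (hu.dvd _ (inf_le_left.trans (hUX.trans hXE)) (hU.inf (inv_perp hinj hB hU)))
      have heq := Submodule.eq_of_le_of_finrank_le (inf_le_left : U ⊓ perp B U ≤ U) (hUd.le.trans hle)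
      exact fun u hu' v hv => mem_perp.1 (inf_eq_left.1 heq hv) u hu'
  set Y := X ⊓ perp B U
  have hUY : U ≤ Y := le_inf hUX fun v hv => mem_perp.2 fun w hw => hUn w hw v hv
  obtain ⟨U', hU'X, hU', hdis, hsup, hfin⟩ :=
    hs.exists_rel (hX.inf (inv_perp hinj hB hU) : Inv L Y) hX inf_le_left
  have hU'ne : U' ≠ ⊥ := fun h0 => hUne (eq_bot_iff.2 fun x hx => nondegOn_iff.1 hXn x (hUX hx) fun w hw => by
    rw [h0, sup_bot_eq] at hsup
    exact h.isRefl _ _ (mem_perp.1 (hsup.ge hw).2 x hx))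
  have hU'd : finrank F U' = b := by
    refine le_antisymm ?_ (Nat.le_of_dvd (hpos hU'ne) (hu.dvd U' (hU'X.trans hXE) hU'))
    let U₀ : Submodule F X := U.comap X.subtype
    have hY0 : Y.comap X.subtype = perp (restrictForm B X) U₀ := by
      ext v
      rw [Submodule.mem_comap, mem_perp]
      exact ⟨fun hv w hw => mem_perp.1 hv.2 _ hw, fun hv => ⟨v.2, mem_perp.2 fun w hw => hv ⟨w, hUX hw⟩ hw⟩⟩
    have h1 := finrank_le_finrank_perp_add (restrictForm B X) U₀
    rw [← hY0, (Submodule.comapSubtypeEquivOfLe (inf_le_left : Y ≤ X)).finrank_eq,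
      (Submodule.comapSubtypeEquivOfLe hUX).finrank_eq, hUd] at h1
    omega
  refine ⟨U ⊔ U', sup_le hUX hU'X, hU.sup hU', nondegOn_iff.2 fun x hx hx' => ?_, ?_⟩
  · obtain ⟨u, hu', v, hv, rfl⟩ := Submodule.mem_sup.1 hx
    have hv0 : v = 0 := Submodule.disjoint_def.1 hdis v ⟨hU'X hv, mem_perp.2 fun w hw => by
      have := hx' w (Submodule.mem_sup_left hw)
      rwa [map_add, hUn w hw u hu', zero_add] at this⟩ hv
    subst hv0
    rw [add_zero] at hx' ⊢
    refine nondegOn_iff.1 hXn u (hUX hu') fun w hw => ?_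
    rw [← hsup] at hw
    obtain ⟨a, ha, c', hc', rfl⟩ := Submodule.mem_sup.1 hw
    rw [map_add, LinearMap.add_apply, h.isRefl _ _ (mem_perp.1 ha.2 u hu'), hx' c' (Submodule.mem_sup_right hc'),
      add_zero]
  · rw [finrank_sup_of_disjoint (hdis.mono_left hUY), hUd, hU'd, hc, two_mul]

/-- Null subspaces of the moved part. -/
theorem exists_null_moved (hF : Fintype.card F = q ^ 2) (hσ : ∀ x, σ x = x ^ q) (h : IsHermitian B)
    (hN : B.SeparatingRight) (hB : ∀ x y, B (L x) (L y) = B x y) (hr : (r : F) ≠ 0) (hL : L ^ r = 1)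
    {E : Submodule F V} (hd : Disjoint (L.eigenspace 1) E) (hs : Split L) {b c : ℕ} (hu : Uniform L E b)
    (hbo : b = orderOf (Fintype.card F : ZMod r)) (hco : c = orderOf (-(q : ZMod r)))
    (hEn : NondegOn B E) {s : ℕ}
    (hcase : (c = 2 * b ∧ s = 0) ∨ (Odd b ∧ (q : ZMod r) ^ b = -1 ∧ c = b ∧ s = r - 1)) :
    ∃ W : Submodule F V, W ≤ E ∧ Inv L W ∧ Null B W ∧ finrank F E ≤ 2 * finrank F W + s := by
  have hinj := injective_of_isom hN hB
  refine exists_null_large h hB hinj hs (fun X hXE hX hXn hlt => ?_) hu.inv hEn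
  rcases hcase with ⟨hc, rfl⟩ | ⟨hb, hqb, -, rfl⟩
  swap
  · obtain ⟨g, hgi, hgm, hgd, hKn, hKt⟩ := exists_factor_part hF hσ hB hr hL hd hu hbo hb hqb hXE hX hXn (t := b)
      (by rw [mul_comm]; exact Nat.mul_lt_mul_of_pos_right hlt hu.pos)
    obtain ⟨U, hU, h1, h2, h3⟩ := exists_null_selfpaired hF hσ h hinj hB hgi hgm (hgd ▸ hb)
      (hgd ▸ pow_mul_self_eq_one hL hqb) (fun x hx => (Submodule.mem_inf.1 hx).2)
      (fun U hU hUi => hgd ▸ hu.dvd U (hU.trans (inf_le_left.trans hXE)) hUi) (hX.inf (NullInv.inv_ker g)) hKn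
      (hgd ▸ hKt)
    exact ⟨U, hU.trans inf_le_left, h1, h2, h3⟩
  have hne : X ≠ ⊥ := fun h0 => by rw [h0, finrank_bot] at hlt; exact lt_irrefl _ hlt
  obtain ⟨U, hUX, hU, hUd⟩ := hu.exists_le X hXE hX hne
  have hUne : U ≠ ⊥ := fun h0 => by rw [h0, finrank_bot] at hUd; exact hu.pos.ne hUd
  by_cases hUnd : NondegOn B U
  · exfalso
    obtain ⟨hdv, -⟩ := exists_pieces h hinj hB (by have := hu.pos; omega : 0 < c)
      (fun X hXE hX hXn hne => exists_piece_moved hF hσ h hN hB hr hL hd hs hu hbo hco (Or.inl hc) hXE hX hXn hne)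
      (hUX.trans hXE) hU hUnd
    have := Nat.le_of_dvd (by rw [hUd]; exact hu.pos) hdv
    have := hu.pos
    omega
  · have hR : U ⊓ perp B U ≠ ⊥ := fun h0 => hUnd (disjoint_iff.2 h0)
    exact ⟨_, inf_le_left.trans hUX, hU.inf (inv_perp hinj hB hU),
      fun u hu' v hv => mem_perp.1 hv.2 u hu'.1, hR⟩

/-- Existence of null invariant subspaces. -/
theorem exists_null_invariant (hF : Fintype.card F = q ^ 2) (hσ : ∀ x, σ x = x ^ q) (h : IsHermitian B)
    (hN : B.SeparatingRight) (hB : ∀ x y, B (L x) (L y) = B x y) (hr : (r : F) ≠ 0) (hL : L ^ r = 1)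
    {n m b c : ℕ} (hbo : b = orderOf ((q ^ 2 : ℕ) : ZMod r)) (hco : c = orderOf (-(q : ZMod r)))
    (hn : finrank F V = n) (hmn : 2 * m ≤ n) (hk : 2 * (m % b) ≤ n % c)
    (hcase : c = 2 * b ∨ (Odd b ∧ (q : ZMod r) ^ b = -1 ∧ c = b ∧ (r - 1) / b + 2 * (m / b) ≤ n / b)) :
    ∃ W : Submodule F V, finrank F W = m ∧ Null B W ∧ Inv L W := by
  obtain ⟨E, hcpl, hs, hu, -⟩ := exists_structure hr hL
  rw [← orderOf_card_eq hF] at hbo
  rw [← hbo] at hu
  have hinj := injective_of_isom hN hB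
  obtain ⟨horth, hEn, hCn⟩ := moved_facts h hN hB hcpl hu.inv
  have hdim := Submodule.finrank_add_eq_of_isCompl hcpl
  rw [hn] at hdim
  have hb0 := hu.pos
  have hcd : c ∣ finrank F E := (exists_pieces h hinj hB (by rcases hcase with h1 | h1 <;> omega : 0 < c)
    (fun X hXE hX hXn hne => exists_piece_moved hF hσ h hN hB hr hL hcpl.disjoint hs hu hbo hco
      (hcase.imp_right fun h1 => ⟨h1.1, h1.2.1, h1.2.2.1⟩) hXE hX hXn hne) le_rfl hu.inv hEn).1
  obtain ⟨N, hNE⟩ := hcd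
  obtain ⟨s, hs'⟩ : ∃ s, (c = 2 * b ∧ s = 0) ∨ (Odd b ∧ (q : ZMod r) ^ b = -1 ∧ c = b ∧ s = r - 1) := by
    rcases hcase with h1 | h1
    · exact ⟨0, Or.inl ⟨h1, rfl⟩⟩
    · exact ⟨r - 1, Or.inr ⟨h1.1, h1.2.1, h1.2.2.1, rfl⟩⟩
  obtain ⟨W₁, hW₁E, hW₁, hW₁n, hW₁d⟩ :=
    exists_null_moved hF hσ h hN hB hr hL hcpl.disjoint hs hu hbo hco hEn hs'
  have hhalf := hW₁n.two_mul_le_on h hEn hW₁E
  obtain ⟨T, hT⟩ := hu.dvd W₁ hW₁E hW₁
  have hm := Nat.div_add_mod m b
  have key : ∃ a, a * b ≤ m ∧ a ≤ T ∧ 2 * (m - a * b) + finrank F E ≤ n := by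
    refine ⟨min (m / b) T, (Nat.mul_le_mul_right b (min_le_left _ _)).trans (Nat.div_mul_le_self m b),
      min_le_right _ _, ?_⟩
    rcases Nat.le_total (m / b) T with hle | hle
    · rw [min_eq_left hle, show m - m / b * b = m % b by rw [mul_comm] at hm; omega]
      have h1 : n % c = finrank F (L.eigenspace 1) % c := by
        conv_lhs => rw [← hdim, hNE, Nat.add_mul_mod_self_left]
      have h2 := Nat.mod_le (finrank F (L.eigenspace 1)) c
      omega
    · rw [min_eq_right hle]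
      have hTm : T * b ≤ m := (Nat.mul_le_mul_right b hle).trans (Nat.div_mul_le_self m b)
      rw [mul_comm b T] at hT
      rcases hs' with ⟨hc2, rfl⟩ | ⟨-, hqb, hcb, rfl⟩
      · omega
      rcases hcase with h1 | ⟨-, -, -, h1⟩
      · omega
      have h2 := Nat.mul_le_mul_right b h1
      have hdiv : (r - 1) / b * b = r - 1 := Nat.div_mul_cancel (hbo ▸ orderOf_dvd_of_pow_eq_one
        (ZMod.pow_card_sub_one_eq_one fun h0 => by
          rw [hF, Nat.cast_pow, pow_eq_zero_iff two_ne_zero] at h0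
          exact (natCast_ne_zero_iff hF).1 hr h0))
      have h3 := Nat.div_add_mod n b
      rw [add_mul, hdiv, mul_assoc, mul_comm (m / b) b, mul_comm (n / b) b] at h2
      rw [hcb] at hk
      omega
  obtain ⟨a, ham, haT, hab⟩ := key
  obtain ⟨U₁, hU₁W, hU₁, hU₁d⟩ := hu.exists_sub hs hW₁E hW₁ (k := a)
    (by rw [hT, mul_comm b T]; exact Nat.mul_le_mul_right b haT)
  obtain ⟨U₂, hU₂C, hU₂n, hU₂d⟩ := exists_null_fixed h hCn (x := m - a * b) (by omega)
  refine ⟨U₁ ⊔ U₂, ?_, (hW₁n.mono hU₁W).sup h hU₂n fun u hu' w hw => horth u (hW₁E (hU₁W hu')) w (hU₂C hw),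
    hU₁.sup (inv_of_le_fixed hU₂C)⟩
  rw [finrank_sup_of_disjoint (hcpl.disjoint.symm.mono (hU₁W.trans hW₁E) hU₂C), hU₁d, hU₂d]
  omega

/-- Existence of non-degenerate invariant subspaces. -/
theorem exists_nondeg_invariant (hF : Fintype.card F = q ^ 2) (hσ : ∀ x, σ x = x ^ q) (h : IsHermitian B)
    (hN : B.SeparatingRight) (hB : ∀ x y, B (L x) (L y) = B x y) (hr : (r : F) ≠ 0) (hL : L ^ r = 1)
    {n m b c : ℕ} (hbo : b = orderOf ((q ^ 2 : ℕ) : ZMod r)) (hco : c = orderOf (-(q : ZMod r)))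
    (hn : finrank F V = n) (hmn : m ≤ n) (hk : m % c ≤ n % c)
    (hcase : c = 2 * b ∨ (Odd b ∧ (q : ZMod r) ^ b = -1 ∧ c = b)) :
    ∃ W : Submodule F V, finrank F W = m ∧ NondegOn B W ∧ Inv L W := by
  obtain ⟨E, hcpl, hs, hu, -⟩ := exists_structure hr hL
  rw [← orderOf_card_eq hF] at hbo
  rw [← hbo] at hu
  have hinj := injective_of_isom hN hB
  obtain ⟨horth, hEn, hCn⟩ := moved_facts h hN hB hcpl hu.inv
  have hdim := Submodule.finrank_add_eq_of_isCompl hcpl
  rw [hn] at hdim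
  have hb0 := hu.pos
  obtain ⟨⟨N, hNE⟩, hall⟩ := exists_pieces h hinj hB (by rcases hcase with h1 | h1 <;> omega : 0 < c)
    (fun X hXE hX hXn hne => exists_piece_moved hF hσ h hN hB hr hL hcpl.disjoint hs hu hbo hco
      hcase hXE hX hXn hne) le_rfl hu.inv hEn
  have hm := Nat.div_add_mod m c
  have key : ∃ a, a * c ≤ m ∧ a * c ≤ finrank F E ∧ m - a * c ≤ finrank F (L.eigenspace 1) := by
    rw [hNE, mul_comm c N]
    refine ⟨min (m / c) N, (Nat.mul_le_mul_right c (min_le_left _ _)).trans (Nat.div_mul_le_self m c),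
      Nat.mul_le_mul_right c (min_le_right _ _), ?_⟩
    rcases Nat.le_total (m / c) N with hle | hle
    · rw [min_eq_left hle, show m - m / c * c = m % c by rw [mul_comm] at hm; omega]
      have h1 : n % c = finrank F (L.eigenspace 1) % c := by
        conv_lhs => rw [← hdim, hNE, Nat.add_mul_mod_self_left]
      have h2 := Nat.mod_le (finrank F (L.eigenspace 1)) c
      omega
    · rw [min_eq_right hle, mul_comm N c]
      omega
  obtain ⟨a, ham, haE, hab⟩ := key
  obtain ⟨U₁, hU₁E, hU₁, hU₁n, hU₁d⟩ := hall a haE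
  obtain ⟨U₂, hU₂C, hU₂n, hU₂d⟩ := exists_nondeg_fixed h hCn hab
  have ho : ∀ u ∈ U₁, ∀ w ∈ U₂, B u w = 0 := fun u hu' w hw => horth u (hU₁E hu') w (hU₂C hw)
  refine ⟨U₁ ⊔ U₂, ?_, nondegOn_sup h hU₁n hU₂n ho, hU₁.sup (inv_of_le_fixed hU₂C)⟩
  rw [finrank_sup_orth hU₁n ho, hU₁d, hU₂d]
  omega

/-- Roots of scalars that are no `r`-th powers. -/
theorem kummer_invariant (hF : Fintype.card F = q ^ 2) (hσ : ∀ x, σ x = x ^ q) (h : IsHermitian B)
    (hN : B.SeparatingRight) (hB : ∀ x y, B (L x) (L y) = B x y) (hr : (r : F) ≠ 0) (hr2 : Odd r)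
    (hrq : r ∣ q + 1) {z : F} (hz : z ^ (q + 1) = 1) (hzr : ∀ d : F, d ^ r ≠ z)
    (hL : L ^ r = algebraMap F (Module.End F V) z) {n m : ℕ} (hn : finrank F V = n) (hrm : r ∣ m) :
    (r - 1 + 2 * m ≤ n → ∃ W : Submodule F V, finrank F W = m ∧ Null B W ∧ Inv L W) ∧
      (m ≤ n → ∃ W : Submodule F V, finrank F W = m ∧ NondegOn B W ∧ Inv L W) := by
  have hrp : r.Prime := Fact.out
  have hinj := injective_of_isom hN hB
  have hz0 : z ≠ 0 := fun h0 => by rw [h0, zero_pow (by omega)] at hz; exact zero_ne_one hz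
  have hs : Split L := split_of_pow hr hz0 hL
  have hu := kummer_uniform hzr hL
  have hgd : (X ^ r - C z : F[X]).natDegree = r := natDegree_X_pow_sub_C
  have hgi : Irreducible (X ^ r - C z : F[X]) := X_pow_sub_C_irreducible_of_prime hrp hzr
  have hgm : (X ^ r - C z : F[X]).Monic := monic_X_pow_sub_C _ hrp.ne_zero
  have hgV : ∀ x, aeval L (X ^ r - C z : F[X]) x = 0 := fun x => by simp [hL]
  have hLe : L ^ (q ^ r) * L = 1 := by
    obtain ⟨u, hu'⟩ := hrq
    have hdvd : r * (q + 1) ∣ q ^ r + 1 := by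
      rw [← Int.natCast_dvd_natCast]
      push_cast
      have h1 := geom_sum_mul (-(q : ℤ)) r
      rw [hr2.neg_pow] at h1
      rw [show (q : ℤ) ^ r + 1 = (∑ i ∈ Finset.range r, (-(q : ℤ)) ^ i) * ((q : ℤ) + 1) by linear_combination h1]
      refine mul_dvd_mul_right ?_ _
      rw [← ZMod.intCast_zmod_eq_zero_iff_dvd]
      push_cast
      have hq1 : (-(q : ZMod r)) = 1 := by
        have : ((q + 1 : ℕ) : ZMod r) = 0 := (ZMod.natCast_eq_zero_iff _ _).2 ⟨u, hu'⟩
        push_cast at this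
        linear_combination -this
      simp [hq1]
    obtain ⟨t, ht⟩ := hdvd
    rw [← pow_succ, ht, mul_assoc, pow_mul, hL, ← map_pow, pow_mul, hz, one_pow, map_one]
  have hfacts := fun {X : Submodule F V} (hX : Inv L X) (hXn : NondegOn B X) =>
    selfpaired_facts hF hσ h hinj hB hgi hgm (hgd.symm ▸ hr2) (hgd.symm ▸ hLe) hgV (hgd.symm ▸ hu) hX hXn
  obtain ⟨w, hw⟩ := hrm
  constructor
  · intro hcount
    obtain ⟨W, -, hW, hWn, hWd⟩ := exists_null_large h hB hinj hs (E := ⊤) (s := r)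
      (fun X _ hX hXn hlt => (hfacts hX hXn).2 (hgd.symm ▸ hlt)) inv_top (nondegOn_top hN)
    rw [finrank_top, hn] at hWd
    have hhalf := hWn.two_mul_le h hN
    obtain ⟨U, hUW, hU, hUd⟩ := hu.exists_sub hs (k := w) le_top hW (by
      rw [mul_comm]; omega)
    exact ⟨U, by rw [hUd, hw, mul_comm], hWn.mono hUW, hU⟩
  · intro hmn
    obtain ⟨P, -, hP, hPn, hPd⟩ := (exists_pieces h hinj hB hrp.pos (E := ⊤)
      (fun X _ hX hXn hne => by
        obtain ⟨P, h1, h2, h3, h4⟩ := (hfacts hX hXn).1 hne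
        exact ⟨P, h1, h2, h3, h4.trans hgd⟩) le_rfl inv_top (nondegOn_top hN)).2 w (by
      rw [finrank_top, hn, mul_comm]; omega)
    exact ⟨P, by rw [hPd, hw, mul_comm], hPn, hP⟩

end CfsgLib.Derangements.UnitElusive
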