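import Cfsg.Agent.Lib.Derangements.UnitaryElusive.Basic

/-!
# Unitary maps annihilated by a self-paired irreducible polynomial
-/

set_option autoImplicit false
set_option linter.unusedSectionVars false

namespace CfsgLib.Derangements.UnitElusive

open Module Polynomial CfsgLib.Classical CfsgLib.Derangements.LinElusive

variable {F : Type*} [Field F] [Fintype F] {V : Type*} [AddCommGroup V] [Module F V] [FiniteDimensional F V]
  {σ : F →+* F} {B : V →ₛₗ[σ] V →ₗ[F] F} {L : Module.End F V} {q : ℕ}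

theorem exists_char_pow (hF : Fintype.card F = q ^ 2) :
    ∃ p k : ℕ, p.Prime ∧ CharP F p ∧ q = p ^ k := by
  obtain ⟨p, hc⟩ := CharP.exists F
  obtain ⟨n, hp, hn⟩ := FiniteField.card F p
  obtain ⟨k, -, hk⟩ := (Nat.dvd_prime_pow hp).1 (show q ∣ p ^ (n : ℕ) by rw [← hn, hF]; exact dvd_pow_self q two_ne_zero)
  exact ⟨p, k, hp, hc, hk⟩

theorem pow_isom (hB : ∀ x y, B (L x) (L y) = B x y) (j : ℕ) (x y : V) : B ((L ^ j) x) ((L ^ j) y) = B x y := by
  induction j with
  | zero => rfl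
  | succ j ih => rw [pow_succ', Module.End.mul_apply, Module.End.mul_apply, hB, ih]

/-- The adjoint of a polynomial in an isometry is a power of it. -/
theorem aeval_adjoint (hF : Fintype.card F = q ^ 2) (hσ : ∀ x, σ x = x ^ q) (hB : ∀ x y, B (L x) (L y) = B x y)
    {e : ℕ} (he : Odd e) (hLe : L ^ (q ^ e) * L = 1) (A : F[X]) (x y : V) :
    B (aeval L A x) y = B x (aeval L (A ^ (q ^ e)) y) := by
  obtain ⟨p, k, hp, hc, hq⟩ := exists_char_pow hF
  haveI := hc
  haveI : Fact p.Prime := ⟨hp⟩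
  have hQ : q ^ e = p ^ (k * e) := by rw [hq, pow_mul]
  induction A using Polynomial.induction_on' generalizing x y with
  | add f g hf hg =>
    rw [hQ] at hf hg ⊢
    rw [add_pow_char_pow, map_add, map_add, LinearMap.add_apply, LinearMap.add_apply, map_add, LinearMap.add_apply,
      map_add, hf, hg]
  | monomial j c =>
    have hcQ : c ^ (q ^ e) = c ^ q := by
      obtain ⟨t, rfl⟩ := he
      rw [pow_succ, pow_mul q 2 t, ← hF, pow_mul, FiniteField.pow_card_pow]
    have hcomm : Commute L (L ^ (q ^ e)) := (Commute.refl L).pow_right _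
    have h1 : L ^ j * L ^ (j * q ^ e) = 1 := by
      rw [mul_comm j, pow_mul, ← hcomm.mul_pow, hcomm.eq, hLe, one_pow]
    rw [Polynomial.monomial_pow, aeval_monomial, aeval_monomial, hcQ, Module.End.mul_apply, Module.End.mul_apply,
      Module.algebraMap_end_apply, Module.algebraMap_end_apply, map_smulₛₗ, LinearMap.smul_apply, map_smul, hσ]
    congr 1
    conv_lhs => arg 2; rw [← Module.End.one_apply (R := F) y, ← h1, Module.End.mul_apply]
    exact pow_isom hB j _ _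

/-- The cyclic subspace of a vector. -/
noncomputable def cyc (L : Module.End F V) (u : V) : Submodule F V :=
  LinearMap.range ((LinearMap.applyₗ (R := F) u).comp (aeval L).toLinearMap)

theorem mem_cyc {u x : V} : x ∈ cyc L u ↔ ∃ A : F[X], aeval L A u = x := Iff.rfl

theorem self_mem_cyc (u : V) : u ∈ cyc L u := mem_cyc.2 ⟨1, by simp⟩

theorem inv_cyc (u : V) : Inv L (cyc L u) := Inv.of_mem fun x hx => by
  obtain ⟨A, rfl⟩ := mem_cyc.1 hx
  exact mem_cyc.2 ⟨X * A, by simp⟩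

theorem cyc_le {U : Submodule F V} (hU : Inv L U) {u : V} (hu : u ∈ U) : cyc L u ≤ U := fun x hx => by
  obtain ⟨A, rfl⟩ := mem_cyc.1 hx
  exact hU.aeval_mem A hu

theorem finrank_cyc_le {g : F[X]} (hg : g.Monic) {u : V} (hgu : aeval L g u = 0) :
    finrank F (cyc L u) ≤ g.natDegree := by
  rcases eq_or_ne g 1 with rfl | hg1
  · have hu : u = 0 := by simpa using hgu
    have h0 : cyc L u = ⊥ := eq_bot_iff.2 fun x hx => by
      obtain ⟨A, rfl⟩ := mem_cyc.1 hx
      simp [hu]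
    rw [h0, finrank_bot]
    exact Nat.zero_le _
  let ev : degreeLT F g.natDegree →ₗ[F] V :=
    ((LinearMap.applyₗ (R := F) u).comp (aeval L).toLinearMap).comp (degreeLT F g.natDegree).subtype
  have hle : cyc L u ≤ LinearMap.range ev := fun x hx => by
    obtain ⟨A, rfl⟩ := mem_cyc.1 hx
    refine ⟨⟨A %ₘ g, ?_⟩, ?_⟩
    · rw [mem_degreeLT]
      exact (degree_modByMonic_lt A hg).trans_le degree_le_natDegree
    · show aeval L (A %ₘ g) u = aeval L A u
      conv_rhs => rw [← modByMonic_add_div A g]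
      rw [map_add, LinearMap.add_apply, mul_comm g, map_mul, Module.End.mul_apply, hgu, map_zero, add_zero]
  refine (Submodule.finrank_mono hle).trans ((LinearMap.finrank_range_le ev).trans (le_of_eq ?_))
  rw [(degreeLTEquiv F _).finrank_eq, finrank_fin_fun]

/-- An anisotropic vector generates a non-degenerate piece. -/
theorem exists_piece_selfpaired (h : IsHermitian B) (hinj : Function.Injective L)
    (hB : ∀ x y, B (L x) (L y) = B x y) {X : Submodule F V} {g : F[X]} (hgm : g.Monic)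
    (hgX : ∀ x ∈ X, aeval L g x = 0) (hdvd : ∀ U ≤ X, Inv L U → g.natDegree ∣ finrank F U)
    (hX : Inv L X) (hXn : NondegOn B X) (hne : X ≠ ⊥) :
    ∃ u ∈ X, B u u ≠ 0 ∧ cyc L u ≤ X ∧ NondegOn B (cyc L u) ∧ finrank F (cyc L u) = g.natDegree := by
  obtain ⟨u, hu, huu⟩ := h.exists_unit_in hXn
    (Nat.pos_of_ne_zero fun h0 => hne (Submodule.finrank_eq_zero.1 h0)) (map_one σ)
  have hu1 : B u u ≠ 0 := by rw [huu]; exact one_ne_zero
  have hPX : cyc L u ≤ X := cyc_le hX hu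
  have hu0 : u ≠ 0 := fun h0 => by simp [h0] at hu1
  have hpos : ∀ W : Submodule F V, W ≠ ⊥ → 0 < finrank F W := fun W hW =>
    Nat.pos_of_ne_zero fun h0 => hW (Submodule.finrank_eq_zero.1 h0)
  have hP0 : cyc L u ≠ ⊥ := fun h0 => hu0 ((Submodule.eq_bot_iff _).1 h0 u (self_mem_cyc u))
  have hdeg : finrank F (cyc L u) = g.natDegree := le_antisymm (finrank_cyc_le hgm (hgX u hu))
    (Nat.le_of_dvd (hpos _ hP0) (hdvd _ hPX (inv_cyc u)))
  refine ⟨u, hu, hu1, hPX, ?_, hdeg⟩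
  refine disjoint_iff.2 ?_
  by_contra hR
  have hle : g.natDegree ≤ finrank F (cyc L u ⊓ perp B (cyc L u) : Submodule F V) :=
    Nat.le_of_dvd (hpos _ hR) (hdvd _ (inf_le_left.trans hPX) ((inv_cyc u).inf (inv_perp hinj hB (inv_cyc u))))
  have heq := Submodule.eq_of_le_of_finrank_le (inf_le_left : cyc L u ⊓ perp B (cyc L u) ≤ cyc L u)
    (hdeg.le.trans hle)
  exact hu1 (mem_perp.1 (inf_eq_left.1 heq (self_mem_cyc u)) u (self_mem_cyc u))

/-- Two pieces of the same self-paired type contain a null invariant subspace. -/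
theorem exists_null_selfpaired (hF : Fintype.card F = q ^ 2) (hσ : ∀ x, σ x = x ^ q) (h : IsHermitian B)
    (hinj : Function.Injective L) (hB : ∀ x y, B (L x) (L y) = B x y) {g : F[X]} (hgi : Irreducible g)
    (hgm : g.Monic) (he : Odd g.natDegree) (hLe : L ^ (q ^ g.natDegree) * L = 1) {X : Submodule F V}
    (hgX : ∀ x ∈ X, aeval L g x = 0) (hdvd : ∀ U ≤ X, Inv L U → g.natDegree ∣ finrank F U)
    (hX : Inv L X) (hXn : NondegOn B X) (hlt : g.natDegree < finrank F X) :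
    ∃ U : Submodule F V, U ≤ X ∧ Inv L U ∧ Null B U ∧ U ≠ ⊥ := by
  classical
  set Q := q ^ g.natDegree with hQdef
  have hne : X ≠ ⊥ := fun h0 => by rw [h0, finrank_bot] at hlt; exact absurd hlt (Nat.not_lt_zero _)
  obtain ⟨u₁, hu₁, hu₁0, hP₁X, hP₁n, hP₁d⟩ := exists_piece_selfpaired h hinj hB hgm hgX hdvd hX hXn hne
  obtain ⟨hX'n, hX'd⟩ := h.finrank_inf_perp hP₁n hXn hP₁X
  set X' := X ⊓ perp B (cyc L u₁)
  have hX' : Inv L X' := hX.inf (inv_perp hinj hB (inv_cyc u₁))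
  have hne' : X' ≠ ⊥ := fun h0 => by rw [h0, finrank_bot] at hX'd; omega
  obtain ⟨u₂, hu₂, hu₂0, -, -, -⟩ := exists_piece_selfpaired h hinj hB hgm (fun x hx => hgX x (Submodule.mem_inf.1 hx).1)
    (fun U hU => hdvd U (hU.trans inf_le_left)) hX' hX'n hne'
  haveI := Fact.mk hgi
  haveI : Module.Finite F (AdjoinRoot g) := (AdjoinRoot.powerBasis hgi.ne_zero).finite
  haveI : Finite (AdjoinRoot g) := Module.finite_of_finite F
  haveI : Fintype (AdjoinRoot g) := Fintype.ofFinite _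
  have hK : Fintype.card (AdjoinRoot g) = Q ^ 2 := by
    rw [Module.card_eq_pow_finrank (K := F), (AdjoinRoot.powerBasis hgi.ne_zero).finrank, AdjoinRoot.powerBasis_dim,
      hF, ← pow_mul, ← pow_mul, mul_comm]
  obtain ⟨τ, hτ, hτc⟩ := exists_frob hK
  let ψ : V → (AdjoinRoot g →ₗ[F] F) := fun u =>
    ((B u).comp ((LinearMap.applyₗ (R := F) u).comp (aeval L).toLinearMap)).comp (AdjoinRoot.modByMonicHom hgm)
  have hred : ∀ (R : F[X]) (u : V), u ∈ X → aeval L (R %ₘ g) u = aeval L R u := fun R u hu => by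
    conv_rhs => rw [← modByMonic_add_div R g]
    rw [map_add, LinearMap.add_apply, mul_comm g, map_mul, Module.End.mul_apply, hgX u hu, map_zero, add_zero]
  have hψ : ∀ (R : F[X]) (u : V), u ∈ X → ψ u (AdjoinRoot.mk g R) = B u (aeval L R u) := fun R u hu => by
    simp only [ψ, LinearMap.comp_apply, AdjoinRoot.modByMonicHom_mk, AlgHom.toLinearMap_apply,
      LinearMap.applyₗ_apply_apply, hred R u hu]
  have hσψ : ∀ u ∈ X, ∀ b, σ (ψ u b) = ψ u (τ b) := fun u hu b => by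
    induction b using AdjoinRoot.induction_on with
    | ih R => rw [hψ R u hu, h.symm, hτ, ← map_pow, hψ _ u hu, aeval_adjoint hF hσ hB he hLe]
  have hψ0 : ∀ u ∈ X, ψ u 1 = B u u := fun u hu => by
    rw [← map_one (AdjoinRoot.mk g), hψ 1 u hu, map_one, Module.End.one_apply]
  let M : AdjoinRoot g →ₗ[F] (AdjoinRoot g →ₗ[F] F) := (LinearMap.mul F (AdjoinRoot g)).compr₂ (ψ u₁)
  have hM : ∀ a b, M a b = ψ u₁ (a * b) := fun a b => rfl
  have hMi : Function.Injective M := (injective_iff_map_eq_zero _).2 fun a ha => by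
    by_contra ha0
    have h1 : M a a⁻¹ = 0 := by rw [ha]; rfl
    rw [hM, mul_inv_cancel₀ ha0, hψ0 u₁ hu₁] at h1
    exact hu₁0 h1
  obtain ⟨E, hE⟩ := (LinearMap.injective_iff_surjective_of_finrank_eq_finrank
    (Subspace.dual_finrank_eq (K := F) (V := AdjoinRoot g)).symm).1 hMi (ψ u₂)
  have hEb : ∀ b, ψ u₂ b = ψ u₁ (E * b) := fun b => (LinearMap.congr_fun hE b).symm
  have hE0 : E ≠ 0 := fun h0 => hu₂0 (by rw [← hψ0 u₂ hu₂.1, hEb, h0, zero_mul, map_zero])
  have hEfix : τ E = E := by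
    refine sub_eq_zero.1 (by_contra fun hD => ?_)
    have key : ∀ c, ψ u₁ ((τ E - E) * c) = 0 := fun c => by
      rw [← hτc.invol c, sub_mul, map_sub, sub_eq_zero, ← map_mul, ← hσψ u₁ hu₁, ← hEb, hσψ u₂ hu₂.1, hEb]
    have h1 := key (τ E - E)⁻¹
    rw [mul_inv_cancel₀ hD, hψ0 u₁ hu₁] at h1
    exact hu₁0 h1
  obtain ⟨c, hc⟩ := hτc.exists_norm_eq (a := -E⁻¹) (by rw [map_neg, map_inv₀, hEfix])
  obtain ⟨C, rfl⟩ := AdjoinRoot.mk_surjective c
  have hCu : aeval L C u₂ ∈ X' := hX'.aeval_mem C hu₂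
  set v := u₁ + aeval L C u₂
  have hv : v ∈ X := X.add_mem hu₁ hCu.1
  have horth : ∀ a ∈ cyc L u₁, ∀ b ∈ X', B a b = 0 := fun a ha b hb => mem_perp.1 hb.2 a ha
  have key : ∀ R : F[X], B v (aeval L R v) = 0 := fun R => by
    have h1 : aeval L R (aeval L C u₂) ∈ X' := hX'.aeval_mem R hCu
    have h2 : aeval L R u₁ ∈ cyc L u₁ := mem_cyc.2 ⟨R, rfl⟩
    have h3 : B (aeval L C u₂) (aeval L R (aeval L C u₂)) = ψ u₂ (AdjoinRoot.mk g (C ^ Q * (R * C))) := by
      rw [hψ _ _ hu₂.1, map_mul, map_mul, aeval_adjoint hF hσ hB he hLe, Module.End.mul_apply, Module.End.mul_apply]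
    simp only [v, map_add, LinearMap.add_apply, horth u₁ (self_mem_cyc u₁) _ h1,
      h.isRefl _ _ (horth _ h2 _ hCu), h3, ← hψ R u₁ hu₁, zero_add, add_zero]
    rw [hEb, map_mul (AdjoinRoot.mk g), map_mul (AdjoinRoot.mk g), map_pow, ← hτ]
    have h4 : E * (AdjoinRoot.mk g C * τ (AdjoinRoot.mk g C)) = -1 := by rw [hc, mul_neg, mul_inv_cancel₀ hE0]
    rw [show E * (τ (AdjoinRoot.mk g C) * (AdjoinRoot.mk g R * AdjoinRoot.mk g C)) =
      E * (AdjoinRoot.mk g C * τ (AdjoinRoot.mk g C)) * AdjoinRoot.mk g R by ring, h4, neg_one_mul, map_neg,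
      add_neg_cancel]
  refine ⟨cyc L v, cyc_le hX hv, inv_cyc v, fun a ha b hb => ?_, fun h0 => hu₁0 ?_⟩
  · obtain ⟨S, rfl⟩ := mem_cyc.1 ha
    obtain ⟨R, rfl⟩ := mem_cyc.1 hb
    rw [aeval_adjoint hF hσ hB he hLe, ← Module.End.mul_apply, ← map_mul]
    exact key _
  · have hv0 : v = 0 := (Submodule.eq_bot_iff _).1 h0 v (self_mem_cyc v)
    have h1 : B u₁ v = B u₁ u₁ := by rw [map_add, horth u₁ (self_mem_cyc u₁) _ hCu, add_zero]
    rw [← h1, hv0, map_zero]

/-- Moved pieces and null subspaces when an isometry is annihilated by one self-paired polynomial. -/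
theorem selfpaired_facts (hF : Fintype.card F = q ^ 2) (hσ : ∀ x, σ x = x ^ q) (h : IsHermitian B)
    (hinj : Function.Injective L) (hB : ∀ x y, B (L x) (L y) = B x y) {g : F[X]} (hgi : Irreducible g)
    (hgm : g.Monic) (he : Odd g.natDegree) (hLe : L ^ (q ^ g.natDegree) * L = 1)
    (hgV : ∀ x, aeval L g x = 0) (hu : Uniform L ⊤ g.natDegree) {X : Submodule F V} (hX : Inv L X)
    (hXn : NondegOn B X) :
    (X ≠ ⊥ → ∃ P : Submodule F V, P ≤ X ∧ Inv L P ∧ NondegOn B P ∧ finrank F P = g.natDegree) ∧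
      (g.natDegree < finrank F X → ∃ U : Submodule F V, U ≤ X ∧ Inv L U ∧ Null B U ∧ U ≠ ⊥) :=
  ⟨fun hne => by
    obtain ⟨u, -, -, h1, h2, h3⟩ := exists_piece_selfpaired h hinj hB hgm (fun x _ => hgV x)
      (fun U _ => hu.dvd U le_top) hX hXn hne
    exact ⟨_, h1, inv_cyc u, h2, h3⟩,
  exists_null_selfpaired hF hσ h hinj hB hgi hgm he hLe (fun x _ => hgV x) (fun U _ => hu.dvd U le_top) hX hXn⟩

end CfsgLib.Derangements.UnitElusive
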