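import Cfsg.Agent.Lib.Derangements.UnitaryElusive.Witness

/-!
# Unitary involutions modulo scalars in odd characteristic
-/

set_option autoImplicit false
set_option linter.unusedSectionVars false

namespace CfsgLib.Derangements.UnitElusive

open Module Polynomial CfsgLib.Classical CfsgLib.Derangements.LinElusive

variable {F : Type*} [Field F] [Fintype F] {σ : F →+* F} {q : ℕ}

theorem odd_q (hF : Fintype.card F = q ^ 2) (h2 : (2 : F) ≠ 0) : Odd q := by
  haveI : Fact (Nat.Prime 2) := ⟨Nat.prime_two⟩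
  have h := (natCast_ne_zero_iff (r := 2) hF).1 (by exact_mod_cast h2)
  rw [Ne, ZMod.natCast_eq_zero_iff] at h
  exact Nat.odd_iff.2 (by omega)

/-- A square root of a norm one scalar. -/
theorem exists_two_root (hF : Fintype.card F = q ^ 2) (h2 : (2 : F) ≠ 0) {z : F} (hz : z ^ (q + 1) = 1) :
    ∃ w : F, w ^ 2 = z ∧ (w ^ (q + 1) = 1 ∨ w ^ (q + 1) = -1) := by
  obtain ⟨t, ht⟩ := odd_q hF h2
  have hq := two_le_of_card_sq hF
  have hz0 : z ≠ 0 := fun h0 => by rw [h0, zero_pow (by omega)] at hz; exact zero_ne_one hz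
  have hdiv : Fintype.card F - 1 = 2 * ((q + 1) * t) := by
    rw [card_sub_one hF, show q - 1 = 2 * t by omega]
    ring
  obtain ⟨w, rfl⟩ := (exists_pow_eq_iff (Dvd.intro _ hdiv.symm) hz0).2 (by
    rw [hdiv, Nat.mul_div_cancel_left _ two_pos, pow_mul, hz, one_pow])
  refine ⟨w, rfl, ?_⟩
  rw [← sq_eq_one_iff, ← pow_mul, mul_comm, pow_mul]
  exact hz

theorem false_of_neg_one (h2 : (2 : F) ≠ 0) {x : F} {j k o : ℕ} (h1 : x ^ j = 1) (hk : x ^ k = -1) (ho : Odd o)
    (hd : j ∣ k * o) : False := by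
  obtain ⟨t, ht⟩ := hd
  have h3 : (x ^ k) ^ o = 1 := by rw [← pow_mul, ht, pow_mul, h1, one_pow]
  rw [hk, ho.neg_one_pow] at h3
  exact h2 (by linear_combination -h3)

section

variable {V : Type*} [AddCommGroup V] [Module F V] [FiniteDimensional F V] {B : V →ₛₗ[σ] V →ₗ[F] F}
  {L : Module.End F V}

/-- The eigenspaces of an involution. -/
theorem two_structure (h2 : (2 : F) ≠ 0) {w : F} (hw0 : w ≠ 0)
    (hL : L ^ 2 = algebraMap F (Module.End F V) (w ^ 2)) :
    ∃ C E : Submodule F V, IsCompl C E ∧ (∀ u ∈ C, L u = w • u) ∧ (∀ u ∈ E, L u = (-w) • u) ∧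
      (∀ W, Inv L W → finrank F W = finrank F (W ⊓ C : Submodule F V) + finrank F (W ⊓ E : Submodule F V)) ∧
      LinearMap.det L = w ^ finrank F V * (-1) ^ finrank F E := by
  haveI : Fact (Nat.Prime 2) := ⟨Nat.prime_two⟩
  set M : Module.End F V := w⁻¹ • L with hMd
  have hM : M ^ 2 = 1 := by
    rw [hMd, _root_.smul_pow, hL, Algebra.algebraMap_eq_smul_one, smul_smul, ← mul_pow, inv_mul_cancel₀ hw0, one_pow, one_smul]
  have hLM : L = w • M := by rw [hMd, smul_smul, mul_inv_cancel₀ hw0, one_smul]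
  obtain ⟨E, hc, -, hu, hsum⟩ := exists_structure (r := 2) (by exact_mod_cast h2) hM
  have hE : ∀ u ∈ E, M u = -u := fun u hu' => by
    have h1 := NullInv.le_ker_cyclotomic hM hu.inv hc.disjoint hu'
    rw [LinearMap.mem_ker, cyclotomic_two, map_add, map_one, aeval_X, LinearMap.add_apply, Module.End.one_apply] at h1
    exact eq_neg_of_add_eq_zero_left h1
  have hC : ∀ u ∈ M.eigenspace 1, M u = u := fun u hu' => by
    rwa [Module.End.mem_eigenspace_iff, one_smul] at hu'
  refine ⟨M.eigenspace 1, E, hc, fun u hu' => by rw [hLM, LinearMap.smul_apply, hC u hu'],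
    fun u hu' => by rw [hLM, LinearMap.smul_apply, hE u hu', smul_neg, neg_smul],
    fun W hW => hsum W ((inv_smul (inv_ne_zero hw0)).2 hW), ?_⟩
  rw [hLM, LinearMap.det_smul]
  congr 1
  let e := Submodule.prodEquivOfIsCompl (M.eigenspace 1) E hc
  have h1 : M = e.toLinearMap.comp ((LinearMap.prodMap LinearMap.id ((-1 : F) • LinearMap.id)).comp e.symm.toLinearMap) :=
    LinearMap.ext fun v => by
      obtain ⟨⟨a, b⟩, rfl⟩ := e.surjective v
      rw [LinearMap.comp_apply, LinearMap.comp_apply, LinearEquiv.coe_coe, LinearEquiv.coe_coe,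
        LinearEquiv.symm_apply_apply]
      simp [e, map_add, hC a a.2, hE b b.2]
  rw [h1]
  refine (LinearMap.det_conj _ e).trans ?_
  rw [LinearMap.det_prodMap, LinearMap.det_id, one_mul, LinearMap.det_smul, LinearMap.det_id, mul_one]

theorem inv_of_le_eigen {U C : Submodule F V} {c : F} (hC : ∀ u ∈ C, L u = c • u) (hU : U ≤ C) : Inv L U :=
  Inv.of_mem fun u hu => by rw [hC u (hU hu)]; exact U.smul_mem c hu

theorem eigen_orth (hσ : ∀ x, σ x = x ^ q) (hB : ∀ x y, B (L x) (L y) = B x y) {a c : F} {u v : V}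
    (hu : L u = a • u) (hv : L v = c • v) (hac : a ^ q * c ≠ 1) : B u v = 0 := by
  have h1 := hB u v
  simp only [hu, hv, map_smulₛₗ, RingHom.id_apply, LinearMap.smul_apply, smul_eq_mul, hσ] at h1
  exact (mul_eq_zero.1 (show (a ^ q * c - 1) * B u v = 0 by linear_combination h1)).resolve_left (sub_ne_zero.2 hac)

/-- An involution that is an isometry after scaling. -/
theorem two_isom (hF : Fintype.card F = q ^ 2) (hσ : ∀ x, σ x = x ^ q) (h : IsHermitian B)
    (hN : B.SeparatingRight) (hB : ∀ x y, B (L x) (L y) = B x y) (h2 : (2 : F) ≠ 0) {w : F}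
    (hw : w ^ (q + 1) = 1) (hL : L ^ 2 = algebraMap F (Module.End F V) (w ^ 2)) :
    ∃ a e : ℕ, a + e = finrank F V ∧ LinearMap.det L = w ^ finrank F V * (-1) ^ e ∧
      (∀ W, Inv L W → Null B W → finrank F W ≤ a / 2 + e / 2) ∧
      (∀ m, m ≤ a / 2 + e / 2 → ∃ W : Submodule F V, finrank F W = m ∧ Null B W ∧ Inv L W) ∧
      ∀ m, m ≤ finrank F V → ∃ W : Submodule F V, finrank F W = m ∧ NondegOn B W ∧ Inv L W := by
  obtain ⟨t, ht⟩ := odd_q hF h2
  have hw0 : w ≠ 0 := fun h0 => by rw [h0, zero_pow (by omega)] at hw; exact zero_ne_one hw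
  obtain ⟨C, E, hc, hC, hE, hsum, hdet⟩ := two_structure h2 hw0 hL
  have horth : ∀ u ∈ C, ∀ v ∈ E, B u v = 0 := fun u hu v hv => eigen_orth hσ hB (hC u hu) (hE v hv) (by
    rw [mul_neg, ← pow_succ, hw]
    exact fun h0 => h2 (by linear_combination -h0))
  have hdim := Submodule.finrank_add_eq_of_isCompl hc
  have htop : ∀ x : V, ∃ a ∈ C, ∃ b ∈ E, a + b = x := fun x =>
    Submodule.mem_sup.1 (hc.sup_eq_top ▸ Submodule.mem_top (x := x))
  have hCn : NondegOn B C := nondegOn_iff.2 fun x hx hx' => hN x fun v => by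
    obtain ⟨a, ha, b, hb, rfl⟩ := htop v
    rw [map_add, LinearMap.add_apply, hx' a ha, h.isRefl _ _ (horth x hx b hb), add_zero]
  have hEn : NondegOn B E := nondegOn_iff.2 fun x hx hx' => hN x fun v => by
    obtain ⟨a, ha, b, hb, rfl⟩ := htop v
    rw [map_add, LinearMap.add_apply, hx' b hb, horth a ha x hx, add_zero]
  refine ⟨finrank F C, finrank F E, hdim, hdet, fun W hW hWn => ?_, fun m hm => ?_, fun m hm => ?_⟩
  · have h1 := (hWn.mono (inf_le_left : W ⊓ C ≤ W)).two_mul_le_on h hCn inf_le_right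
    have h3 := (hWn.mono (inf_le_left : W ⊓ E ≤ W)).two_mul_le_on h hEn inf_le_right
    rw [hsum W hW]
    omega
  · obtain ⟨U₁, hU₁, hU₁n, hU₁d⟩ := exists_null_fixed h hCn (x := min m (finrank F C / 2)) (by omega)
    obtain ⟨U₂, hU₂, hU₂n, hU₂d⟩ := exists_null_fixed h hEn (x := m - min m (finrank F C / 2)) (by omega)
    refine ⟨U₁ ⊔ U₂, ?_, hU₁n.sup h hU₂n fun u hu v hv => horth u (hU₁ hu) v (hU₂ hv),
      (inv_of_le_eigen hC hU₁).sup (inv_of_le_eigen hE hU₂)⟩
    rw [finrank_sup_of_disjoint (hc.disjoint.mono hU₁ hU₂), hU₁d, hU₂d]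
    omega
  · obtain ⟨U₁, hU₁, hU₁n, hU₁d⟩ := exists_nondeg_fixed h hCn (x := min m (finrank F C)) (min_le_right _ _)
    obtain ⟨U₂, hU₂, hU₂n, hU₂d⟩ := exists_nondeg_fixed h hEn (x := m - min m (finrank F C)) (by omega)
    refine ⟨U₁ ⊔ U₂, ?_, nondegOn_sup h hU₁n hU₂n fun u hu v hv => horth u (hU₁ hu) v (hU₂ hv),
      (inv_of_le_eigen hC hU₁).sup (inv_of_le_eigen hE hU₂)⟩
    rw [finrank_sup_of_disjoint (hc.disjoint.mono hU₁ hU₂), hU₁d, hU₂d]
    omega

/-- An involution that becomes an anti-isometry after scaling. -/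
theorem two_anti (hF : Fintype.card F = q ^ 2) (hσ : ∀ x, σ x = x ^ q) (h : IsHermitian B)
    (hN : B.SeparatingRight) (hB : ∀ x y, B (L x) (L y) = B x y) (h2 : (2 : F) ≠ 0) {w : F}
    (hw : w ^ (q + 1) = -1) (hL : L ^ 2 = algebraMap F (Module.End F V) (w ^ 2)) :
    Even (finrank F V) ∧ LinearMap.det L = w ^ finrank F V * (-1) ^ (finrank F V / 2) ∧
      (∀ m, 2 * m ≤ finrank F V → ∃ W : Submodule F V, finrank F W = m ∧ Null B W ∧ Inv L W) ∧
      (∀ m, Even m → m ≤ finrank F V → ∃ W : Submodule F V, finrank F W = m ∧ NondegOn B W ∧ Inv L W) ∧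
      ∀ W, Inv L W → NondegOn B W → Even (finrank F W) := by
  obtain ⟨t, ht⟩ := odd_q hF h2
  have hw0 : w ≠ 0 := fun h0 => by rw [h0, zero_pow (by omega)] at hw; exact (neg_ne_zero.2 one_ne_zero) hw.symm
  have h11 : (-1 : F) ≠ 1 := fun h0 => h2 (by linear_combination -h0)
  obtain ⟨C, E, hc, hC, hE, hsum, hdet⟩ := two_structure h2 hw0 hL
  have hCn : Null B C := fun u hu v hv => eigen_orth hσ hB (hC u hu) (hC v hv) (by rw [← pow_succ, hw]; exact h11)
  have hEn : Null B E := fun u hu v hv => eigen_orth hσ hB (hE u hu) (hE v hv) (by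
    rw [← pow_succ, Even.neg_pow ⟨t + 1, by omega⟩, hw]; exact h11)
  have hdim := Submodule.finrank_add_eq_of_isCompl hc
  have h1 := hCn.two_mul_le h hN
  have h3 := hEn.two_mul_le h hN
  have hhalf : ∀ W, Inv L W → NondegOn B W →
      finrank F (W ⊓ C : Submodule F V) = finrank F (W ⊓ E : Submodule F V) := fun W hW hWn => by
    have h4 := (hCn.mono (inf_le_right : W ⊓ C ≤ C)).two_mul_le_on h hWn inf_le_left
    have h5 := (hEn.mono (inf_le_right : W ⊓ E ≤ E)).two_mul_le_on h hWn inf_le_left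
    have h6 := hsum W hW
    omega
  refine ⟨⟨finrank F C, by omega⟩, by rw [hdet, show finrank F V / 2 = finrank F E by omega], fun m hm => ?_,
    fun m hme hm => ?_, fun W hW hWn => ⟨finrank F (W ⊓ C : Submodule F V), by rw [hsum W hW, ← hhalf W hW hWn]⟩⟩
  · obtain ⟨U, hU, hUd⟩ := exists_le_finrank C (show m ≤ finrank F C by omega)
    exact ⟨U, hUd, hCn.mono hU, inv_of_le_eigen hC hU⟩
  · obtain ⟨k, rfl⟩ := hme
    obtain ⟨P, -, hP, hPn, hPd⟩ := (exists_pieces h (injective_of_isom hN hB) hB two_pos (E := ⊤)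
      (fun X _ hX hXn hne => by
        have hXd := hsum X hX
        have hXh := hhalf X hX hXn
        have hpos : 0 < finrank F X := Nat.pos_of_ne_zero fun h0 => hne (Submodule.finrank_eq_zero.1 h0)
        obtain ⟨u, hu, hu0⟩ := Submodule.exists_mem_ne_zero_of_ne_bot fun h0 : X ⊓ C = ⊥ => by
          rw [h0, finrank_bot] at hXh hXd
          omega
        have hsup : X ⊓ C ⊔ X ⊓ E = X := Submodule.eq_of_le_of_finrank_eq (sup_le inf_le_left inf_le_left) (by
          rw [finrank_sup_of_disjoint (hc.disjoint.mono inf_le_right inf_le_right), hXd])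
        obtain ⟨v, hv, huv⟩ : ∃ v ∈ X ⊓ E, B u v ≠ 0 := by
          by_contra! hcon
          refine hu0 (nondegOn_iff.1 hXn u hu.1 fun y hy => h.isRefl _ _ ?_)
          rw [← hsup] at hy
          obtain ⟨a, ha, b, hb, rfl⟩ := Submodule.mem_sup.1 hy
          rw [map_add, hCn u hu.2 a ha.2, hcon b hb, add_zero]
        have hv0 : v ≠ 0 := fun h0 => huv (by rw [h0, map_zero])
        have hu' : Submodule.span F {u} ≤ X ⊓ C := (Submodule.span_singleton_le_iff_mem _ _).2 hu
        have hv' : Submodule.span F {v} ≤ X ⊓ E := (Submodule.span_singleton_le_iff_mem _ _).2 hv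
        refine ⟨Submodule.span F {u} ⊔ Submodule.span F {v},
          sup_le (hu'.trans inf_le_left) (hv'.trans inf_le_left),
          (inv_of_le_eigen hC (hu'.trans inf_le_right)).sup (inv_of_le_eigen hE (hv'.trans inf_le_right)),
          nondegOn_iff.2 fun x hx hx' => ?_, ?_⟩
        · obtain ⟨a, ha, b, hb, rfl⟩ := Submodule.mem_sup.1 hx
          obtain ⟨s, rfl⟩ := Submodule.mem_span_singleton.1 ha
          obtain ⟨s', rfl⟩ := Submodule.mem_span_singleton.1 hb
          have e1 := hx' u (Submodule.mem_sup_left (Submodule.mem_span_singleton_self u))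
          rw [map_add, map_smul, map_smul, hCn u hu.2 u hu.2, smul_zero, zero_add, smul_eq_mul,
            mul_eq_zero, or_iff_left huv] at e1
          have e2 := hx' v (Submodule.mem_sup_right (Submodule.mem_span_singleton_self v))
          rw [e1, zero_smul, add_zero, map_smul, smul_eq_mul, mul_eq_zero,
            or_iff_left (fun h0 => huv (h.isRefl _ _ h0))] at e2
          rw [e1, e2, zero_smul, zero_smul, add_zero]
        · rw [finrank_sup_of_disjoint (hc.disjoint.mono (hu'.trans inf_le_right) (hv'.trans inf_le_right)),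
            finrank_span_singleton hu0, finrank_span_singleton hv0, one_add_one_eq_two])
      le_rfl inv_top (nondegOn_top hN)).2 k (by rw [finrank_top]; omega)
    exact ⟨P, by omega, hPn, hP⟩

end

/-- An involution with two odd eigenspaces. -/
theorem witness_two_isom (hF : Fintype.card F = q ^ 2) (hσ : ∀ x, σ x = x ^ q) (hσc : IsConjugation σ)
    (h2 : (2 : F) ≠ 0) {m : ℕ} (hm : 1 ≤ m) (hv : padicValNat 2 (2 * m) < padicValNat 2 (q + 1)) :
    ∃ (L : Module.End F (Fin (2 * m) → F)) (z : F), LinearMap.det L = 1 ∧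
      (∀ u v, stdHerm σ (2 * m) (L u) (L v) = stdHerm σ (2 * m) u v) ∧
      L ^ 2 = algebraMap F (Module.End F (Fin (2 * m) → F)) z ∧
      (∀ y : F, L ≠ algebraMap F (Module.End F (Fin (2 * m) → F)) y) ∧
      ∀ W, Inv L W → Null (stdHerm σ (2 * m)) W → finrank F W ≠ m := by
  haveI : Fact (Nat.Prime 2) := ⟨Nat.prime_two⟩
  set v := padicValNat 2 (2 * m) with hvd
  have hdvd : 2 ^ (v + 1) ∣ q + 1 := (pow_dvd_pow 2 hv).trans pow_padicValNat_dvd
  obtain ⟨u, hu⟩ := IsCyclic.exists_ofOrder_eq_natCard (α := Fˣ)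
  rw [Nat.card_units, Nat.card_eq_fintype_card, card_sub_one hF] at hu
  have hdu : 2 ^ (v + 1) ∣ orderOf u := hu ▸ dvd_mul_of_dvd_left hdvd _
  set ω := u ^ (orderOf u / 2 ^ (v + 1))
  have hω : orderOf ω = 2 ^ (v + 1) := orderOf_pow_orderOf_div (orderOf_pos u).ne' hdu
  set w : F := (ω : F) with hwd
  have hwq : w ^ (q + 1) = 1 := by
    rw [hwd, ← Units.val_pow_eq_pow_val, orderOf_dvd_iff_pow_eq_one.1 (hω.symm ▸ hdvd), Units.val_one]
  have hwn : w ^ (2 * m) = -1 := by
    obtain ⟨o, ho⟩ : 2 ^ v ∣ 2 * m := pow_padicValNat_dvd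
    have hodd : Odd o := Nat.not_even_iff_odd.1 fun ⟨s, hs⟩ =>
      pow_succ_padicValNat_not_dvd (p := 2) (show 2 * m ≠ 0 by omega) ⟨s, by rw [← hvd, ho, hs]; ring⟩
    have h1 : w ^ (2 ^ v) = -1 := by
      have h3 : (w ^ (2 ^ v)) ^ 2 = 1 := by
        rw [hwd, ← pow_mul, ← pow_succ, ← Units.val_pow_eq_pow_val, ← hω, pow_orderOf_eq_one, Units.val_one]
      refine (sq_eq_one_iff.1 h3).resolve_left fun h4 => ?_
      rw [hwd, ← Units.val_pow_eq_pow_val, Units.val_eq_one] at h4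
      have h5 := Nat.le_of_dvd (pow_pos (show 0 < 2 by norm_num) v) (hω ▸ orderOf_dvd_of_pow_eq_one h4)
      rw [pow_succ] at h5
      have := pow_pos (show 0 < 2 by norm_num) v
      omega
    rw [ho, pow_mul, h1, hodd.neg_one_pow]
  let d : Fin (2 * m) → F := fun a => if a.1 = 0 then -w else w
  obtain ⟨t, ht⟩ := odd_q hF h2
  obtain ⟨L, hLr, hB, hdet, hsc, -, -⟩ := exists_blocks (σ := σ) (blockEquiv (n := 2 * m) (2 * m) 1 0 (by omega))
    (fun a => algebraMap F (Module.End F (Fin 1 → F)) (d a)) (j := 2) (w ^ 2) (Or.inr rfl)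
    (fun a => by
      rw [← map_pow]
      congr 1
      simp only [d]
      split_ifs <;> ring)
    (fun a x y => by
      simp only [Module.algebraMap_end_apply, map_smulₛₗ, RingHom.id_apply, LinearMap.smul_apply, smul_eq_mul, hσ]
      rw [← mul_assoc, ← pow_succ']
      simp only [d]
      split_ifs
      · rw [Even.neg_pow ⟨t + 1, by omega⟩, hwq, one_mul]
      · rw [hwq, one_mul])
  have hdet1 : LinearMap.det L = 1 := by
    rw [hdet]
    simp only [Algebra.algebraMap_eq_smul_one, LinearMap.det_smul, Module.finrank_fin_fun, map_one, mul_one, pow_one]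
    rw [← Finset.mul_prod_erase Finset.univ d (Finset.mem_univ ⟨0, by omega⟩),
      Finset.prod_eq_pow_card (b := w) (fun a ha => if_neg fun h0 => Finset.ne_of_mem_erase ha (Fin.ext h0)),
      Finset.card_erase_of_mem (Finset.mem_univ _), Finset.card_univ, Fintype.card_fin]
    simp only [d, if_true, neg_mul]
    rw [← pow_succ', show 2 * m - 1 + 1 = 2 * m by omega, hwn, neg_neg]
  refine ⟨L, w ^ 2, hdet1, hB, hLr, fun y hy => ?_, fun W hW hWn hWd => ?_⟩
  · have h0 := (algebraMap F (Module.End F (Fin 1 → F))).injective (hsc y hy ⟨0, by omega⟩)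
    have h1 := (algebraMap F (Module.End F (Fin 1 → F))).injective (hsc y hy ⟨1, by omega⟩)
    simp only [d, if_true, one_ne_zero, if_false] at h0 h1
    exact mul_ne_zero h2 (Units.ne_zero ω) (by linear_combination h1 - h0)
  · obtain ⟨a, e, hae, hde, hbd, -, -⟩ := two_isom hF hσ (stdHerm_isHermitian hσc _) (stdHerm_sepRight _) hB h2 hwq hLr
    have hW' := hbd W hW hWn
    rw [hdet1, Module.finrank_fin_fun, hwn] at hde
    rw [Module.finrank_fin_fun] at hae
    have he : Odd e := Nat.not_even_iff_odd.1 fun he => h2 (by rw [he.neg_one_pow] at hde; linear_combination hde)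
    obtain ⟨s, hs⟩ := he
    omega

/-- An involution all whose non-degenerate invariant subspaces have even dimension. -/
theorem witness_two_anti (hF : Fintype.card F = q ^ 2) (hσ : ∀ x, σ x = x ^ q) (hσc : IsConjugation σ)
    (h2 : (2 : F) ≠ 0) {n : ℕ} (hn : 0 < n) (hne : Even n)
    (hv : padicValNat 2 (q + 1) < padicValNat 2 n ∨ q % 4 = 1) :
    ∃ (L : Module.End F (Fin n → F)) (z : F), LinearMap.det L = 1 ∧
      (∀ u v, stdHerm σ n (L u) (L v) = stdHerm σ n u v) ∧
      L ^ 2 = algebraMap F (Module.End F (Fin n → F)) z ∧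
      (∀ y : F, L ≠ algebraMap F (Module.End F (Fin n → F)) y) ∧
      ∀ W, Inv L W → NondegOn (stdHerm σ n) W → Even (finrank F W) := by
  haveI : Fact (Nat.Prime 2) := ⟨Nat.prime_two⟩
  obtain ⟨t, ht⟩ := odd_q hF h2
  have h11 : (-1 : F) ≠ 1 := fun h0 => h2 (by linear_combination -h0)
  obtain ⟨z, hz, hzh, hzn⟩ : ∃ z : F, z ^ (q + 1) = 1 ∧ z ^ ((q + 1) / 2) = -1 ∧ (-z) ^ (n / 2) = 1 := by
    by_cases hq4 : q % 4 = 1
    · exact ⟨-1, Even.neg_one_pow ⟨t + 1, by omega⟩, Odd.neg_one_pow (Nat.odd_iff.2 (by omega)),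
        by rw [neg_neg, one_pow]⟩
    have hv' := hv.resolve_right hq4
    set A := padicValNat 2 (q + 1) with hA
    have hAd : 2 ^ A ∣ q + 1 := pow_padicValNat_dvd
    have hA2 : 2 ≤ A := (padicValNat_dvd_iff_le (by omega)).1 (show 2 ^ 2 ∣ q + 1 by omega)
    have hnd : 2 ^ (A + 1) ∣ n := (pow_dvd_pow 2 hv').trans pow_padicValNat_dvd
    obtain ⟨u, hu⟩ := IsCyclic.exists_ofOrder_eq_natCard (α := Fˣ)
    rw [Nat.card_units, Nat.card_eq_fintype_card, card_sub_one hF] at hu
    have hdu : 2 ^ A ∣ orderOf u := hu ▸ dvd_mul_of_dvd_left hAd _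
    set ω := u ^ (orderOf u / 2 ^ A)
    have hω : orderOf ω = 2 ^ A := orderOf_pow_orderOf_div (orderOf_pos u).ne' hdu
    have hpow : ∀ k, 2 ^ A ∣ k → ((ω : F)) ^ k = 1 := fun k hk => by
      rw [← Units.val_pow_eq_pow_val, orderOf_dvd_iff_pow_eq_one.1 (hω.symm ▸ hk), Units.val_one]
    have h2A : 2 ^ A ∣ n / 2 := Nat.dvd_div_of_mul_dvd (by rw [← pow_succ']; exact hnd)
    refine ⟨ω, hpow _ hAd, ?_, ?_⟩
    · refine (sq_eq_one_iff.1 ?_).resolve_left fun h4 => ?_
      · rw [← pow_mul, Nat.div_mul_cancel (show 2 ∣ q + 1 by omega), hpow _ hAd]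
      · rw [← Units.val_pow_eq_pow_val, Units.val_eq_one] at h4
        have h5 := orderOf_dvd_of_pow_eq_one h4
        rw [hω] at h5
        have h6 : 2 ^ (A + 1) ∣ q + 1 := by
          rw [pow_succ]
          exact (Nat.mul_dvd_mul_right h5 2).trans (dvd_of_eq (Nat.div_mul_cancel (show 2 ∣ q + 1 by omega)))
        have := (padicValNat_dvd_iff_le (by omega : q + 1 ≠ 0)).1 h6
        omega
    · rw [Even.neg_pow (even_iff_two_dvd.2 ((dvd_pow_self 2 (by omega)).trans h2A)), hpow _ h2A]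
  obtain ⟨T, hT, hTB, hTa⟩ := exists_cycle (σ := σ) (h := 2) hσ hz
  have hdT : LinearMap.det T = -z := by
    rw [← LinearMap.det_toMatrix', Matrix.det_fin_two]
    simp [LinearMap.toMatrix'_apply, hTa, show (-1 : Fin 2) = 1 from rfl]
  have hn2 : n = n / 2 * 2 + 0 := by obtain ⟨k, hk⟩ := hne; omega
  obtain ⟨L, hLr, hB, hdet, hsc, -, -⟩ := exists_blocks (σ := σ) (blockEquiv (n / 2) 2 0 hn2) (fun _ => T)
    (j := 2) z (Or.inr rfl) (fun _ => hT) (fun _ => hTB)
  refine ⟨L, z, by rw [hdet, Finset.prod_const, Finset.card_univ, Fintype.card_fin, hdT, hzn], hB, hLr,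
    fun y hy => ?_, fun W hW hWn => ?_⟩
  · have h1 := hsc y hy ⟨0, by omega⟩
    have h3 := congrFun (LinearMap.congr_fun h1 (Pi.single 1 1)) 0
    rw [hTa, Module.algebraMap_end_apply] at h3
    simp [show (-1 : Fin 2) = 1 from rfl] at h3
    rw [h3, zero_pow (by omega)] at hz
    exact zero_ne_one hz
  · obtain ⟨w, hw, hw'⟩ := exists_two_root hF h2 hz
    rw [← hw] at hLr
    refine (two_anti hF hσ (stdHerm_isHermitian hσc _) (stdHerm_sepRight _) hB h2 (hw'.resolve_left fun h1 => h11 ?_)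
      hLr).2.2.2.2 W hW hWn
    rw [← hzh, ← hw, ← pow_mul, Nat.mul_div_cancel' (show 2 ∣ q + 1 by omega), h1]

end CfsgLib.Derangements.UnitElusive
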