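import Cfsg.Agent.Lib.Derangements.UnitaryElusive.Selfpaired
import Cfsg.Agent.Lib.Derangements.JordanRanks

/-!
# Unipotent unitary maps of order the characteristic and their non-degenerate invariant subspaces
-/

set_option autoImplicit false
set_option linter.unusedSectionVars false

namespace CfsgLib.Derangements.UnitElusive

open Module Polynomial CfsgLib.Classical CfsgLib.Derangements.LinElusive CfsgLib.Derangements.JordanRanks

variable {F : Type*} [Field F] [Fintype F] {σ : F →+* F} {q p : ℕ} [Fact p.Prime] [CharP F p]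

theorem charP_end {V : Type*} [AddCommGroup V] [Module F V] [Nontrivial V] : CharP (Module.End F V) p :=
  charP_of_injective_algebraMap (algebraMap F (Module.End F V)).injective p

section

variable {V : Type*} [AddCommGroup V] [Module F V] [FiniteDimensional F V]
  {B : V →ₛₗ[σ] V →ₗ[F] F} {L : Module.End F V}

theorem pow_char_eq_one (hL : (L - 1) ^ p = 0) : L ^ p = 1 := by
  rcases subsingleton_or_nontrivial V with hV | hV
  · exact LinearMap.ext fun v => Subsingleton.elim _ _
  haveI := charP_end (F := F) (p := p) (V := V)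
  conv_lhs => rw [← sub_add_cancel L 1]
  rw [add_pow_char_of_commute p (Commute.one_right _), hL, zero_add, one_pow]

theorem sub_one_pow_char (hL : L ^ p = 1) : (L - 1) ^ p = 0 := by
  rcases subsingleton_or_nontrivial V with hV | hV
  · exact LinearMap.ext fun v => Subsingleton.elim _ _
  haveI := charP_end (F := F) (p := p) (V := V)
  rw [sub_pow_char_of_commute p (Commute.one_right _), hL, one_pow, sub_self]

/-- A non-degenerate invariant piece of dimension at most `p`. -/
theorem exists_unipotent_piece (h : IsHermitian B) (hB : ∀ x y, B (L x) (L y) = B x y) (hL : L ^ p = 1)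
    {X : Submodule F V} (hX : Inv L X) (hXn : NondegOn B X) (hne : X ≠ ⊥) :
    ∃ P : Submodule F V, P ≤ X ∧ Inv L P ∧ NondegOn B P ∧ 0 < finrank F P ∧ finrank F P ≤ p := by
  classical
  have hp : p.Prime := Fact.out
  set N : Module.End F V := L - 1 with hNd
  have hN : N ^ p = 0 := sub_one_pow_char hL
  have hex : ∃ k, ∀ x ∈ X, (N ^ (k + 1)) x = 0 :=
    ⟨p - 1, fun x _ => by rw [Nat.sub_add_cancel hp.one_le, hN, LinearMap.zero_apply]⟩
  set k := Nat.find hex with hkd
  have hk : ∀ x ∈ X, (N ^ (k + 1)) x = 0 := Nat.find_spec hex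
  have hkp : k + 1 ≤ p := by
    have := Nat.find_min' hex (m := p - 1) fun x _ => by rw [Nat.sub_add_cancel hp.one_le, hN, LinearMap.zero_apply]
    have := hp.one_le
    omega
  obtain ⟨x₀, hx₀, hx₀k⟩ : ∃ x ∈ X, (N ^ k) x ≠ 0 := by
    rcases Nat.eq_zero_or_pos k with h0 | h0
    · obtain ⟨x, hx, hx0⟩ := Submodule.exists_mem_ne_zero_of_ne_bot hne
      exact ⟨x, hx, by rwa [h0, pow_zero, Module.End.one_apply]⟩
    · by_contra! hall
      exact Nat.find_min hex (show k - 1 < k by omega) fun x hx => by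
        rw [Nat.sub_add_cancel h0]; exact hall x hx
  have hinvN : Inv N X := Inv.of_mem fun x hx => X.sub_mem (hX.mem hx) hx
  have hmemN : ∀ (j : ℕ) x, x ∈ X → (N ^ j) x ∈ X := fun j x hx => by
    simpa using hinvN.aeval_mem (Polynomial.X ^ j) hx
  obtain ⟨v, hv, hvv⟩ : ∃ v ∈ X, B v ((N ^ k) v) ≠ 0 := by
    by_contra! hall
    refine hx₀k (nondegOn_iff.1 hXn _ (hmemN k x₀ hx₀) fun a ha => ?_)
    have key : ∀ c : F, σ c * B a ((N ^ k) x₀) + c * B x₀ ((N ^ k) a) = 0 := fun c => by
      have h1 := hall (c • a + x₀) (X.add_mem (X.smul_mem c ha) hx₀)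
      simp only [map_add, map_smul, map_smulₛₗ, LinearMap.add_apply, LinearMap.smul_apply, smul_eq_mul,
        RingHom.id_apply, hall a ha, hall x₀ hx₀] at h1
      linear_combination h1
    obtain ⟨c, hc⟩ := h.conj.exists_not_fixed
    have h1 := key 1
    rw [map_one, one_mul, one_mul] at h1
    exact (mul_eq_zero.1 (show (σ c - c) * B a ((N ^ k) x₀) = 0 by linear_combination key c - c * h1)).resolve_left
      (sub_ne_zero.2 hc)
  have hv0 : v ≠ 0 := fun h0 => by simp [h0] at hvv
  set P := cyc N v with hPd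
  have hPX : P ≤ X := cyc_le hinvN hv
  have hPL : Inv L P := Inv.of_mem fun x hx => by
    have : L x = N x + x := by simp [hNd]
    rw [this]
    exact P.add_mem ((inv_cyc v).mem hx) hx
  have hPd' : finrank F P ≤ k + 1 := by
    refine (finrank_cyc_le (g := Polynomial.X ^ (k + 1)) (monic_X_pow _) (by simpa using hk v hv)).trans ?_
    rw [natDegree_X_pow]
  refine ⟨P, hPX, hPL, nondegOn_iff.2 fun x hx hx' => ?_,
    Nat.pos_of_ne_zero fun h0 => hv0 ((Submodule.eq_bot_iff _).1 (Submodule.finrank_eq_zero.1 h0) v (self_mem_cyc v)),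
    hPd'.trans hkp⟩
  obtain ⟨R, rfl⟩ := mem_cyc.1 hx
  rcases eq_or_ne R 0 with rfl | hR0
  · simp
  obtain ⟨R', hR', hnd⟩ := R.exists_eq_pow_rootMultiplicity_mul_and_not_dvd hR0 0
  rw [map_zero, sub_zero] at hR' hnd
  set j := R.rootMultiplicity 0
  by_cases hjk : k < j
  · rw [hR', mul_comm, map_mul, Module.End.mul_apply, map_pow, aeval_X, show j = (j - (k + 1)) + (k + 1) by omega,
      pow_add, Module.End.mul_apply, hk v hv, map_zero, map_zero]
  exfalso
  have hadj : ∀ (i : ℕ) y, y ∈ P → B v ((N ^ i) (aeval N R v)) = B (((L ^ (p - 1) - 1) ^ i) v) (aeval N R v) := by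
    have hstep : ∀ a b : V, B a (N b) = B ((L ^ (p - 1) - 1 : Module.End F V) a) b := fun a b => by
      have h1 : B a (L b) = B ((L ^ (p - 1)) a) b := by
        conv_lhs => rw [← Module.End.one_apply (R := F) a, ← hL, ← Nat.sub_add_cancel hp.one_le, pow_succ',
          Module.End.mul_apply, hB]
      rw [hNd]
      simp only [LinearMap.sub_apply, Module.End.one_apply, map_sub, h1]
    intro i
    induction i with
    | zero => intro y _; simp
    | succ i ih =>
      intro y hy
      have key : ∀ (i : ℕ) (a b : V), B a ((N ^ i) b) = B (((L ^ (p - 1) - 1) ^ i) a) b := fun i => by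
        induction i with
        | zero => intro a b; simp
        | succ i ih => intro a b; rw [pow_succ', Module.End.mul_apply, hstep, ih, ← Module.End.mul_apply, ← pow_succ]
      exact key _ _ _
  have hmem : ((L ^ (p - 1) - 1) ^ (k - j)) v ∈ P := by
    have h1 : Inv (L ^ (p - 1) - 1) P := Inv.of_mem fun y hy =>
      P.sub_mem (by simpa using hPL.aeval_mem (Polynomial.X ^ (p - 1)) hy) hy
    simpa using h1.aeval_mem (Polynomial.X ^ (k - j)) (self_mem_cyc v)
  have h1 : B v ((N ^ (k - j)) (aeval N R v)) = 0 := by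
    rw [hadj (k - j) v (self_mem_cyc v)]
    exact hx' _ hmem
  have h2 : (N ^ (k - j)) (aeval N R v) = R'.coeff 0 • (N ^ k) v := by
    have e1 : R' = Polynomial.C (R'.coeff 0) + R'.divX * Polynomial.X := by
      rw [add_comm, divX_mul_X_add]
    rw [hR', ← Module.End.mul_apply, map_mul, map_pow, aeval_X, ← mul_assoc, ← pow_add,
      show k - j + j = k by omega]
    conv_lhs => rw [e1]
    simp only [map_add, map_mul, aeval_C, aeval_X, mul_add, LinearMap.add_apply, Module.End.mul_apply,
      Module.algebraMap_end_apply, map_smul]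
    have e2 : aeval N R'.divX (N v) = N (aeval N R'.divX v) := by
      have := LinearMap.congr_fun (congrArg (aeval N) (mul_comm R'.divX Polynomial.X)) v
      simpa using this
    rw [e2, ← Module.End.mul_apply, ← pow_succ, hk _ (hinvN.aeval_mem _ hv), add_zero]
  rw [h2, map_smul, smul_eq_mul] at h1
  exact hnd (X_dvd_iff.2 ((mul_eq_zero.1 h1).resolve_right hvv))

/-- Block sizes such that every sub-multiset is realised by an invariant non-degenerate subspace. -/
theorem exists_partition (h : IsHermitian B) (hN : B.SeparatingRight) (hB : ∀ x y, B (L x) (L y) = B x y)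
    (hL : L ^ p = 1) :
    ∃ μ : Multiset ℕ, (∀ a ∈ μ, 0 < a ∧ a ≤ p) ∧ μ.sum = finrank F V ∧
      ∀ ν ≤ μ, ∃ W : Submodule F V, finrank F W = ν.sum ∧ NondegOn B W ∧ Inv L W := by
  classical
  suffices H : ∀ n, ∀ X : Submodule F V, Inv L X → NondegOn B X → finrank F X = n →
      ∃ μ : Multiset ℕ, (∀ a ∈ μ, 0 < a ∧ a ≤ p) ∧ μ.sum = n ∧
        ∀ ν ≤ μ, ∃ W : Submodule F V, W ≤ X ∧ finrank F W = ν.sum ∧ NondegOn B W ∧ Inv L W by
    obtain ⟨μ, h1, h2, h3⟩ := H _ ⊤ inv_top (nondegOn_top hN) (finrank_top F V)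
    exact ⟨μ, h1, h2, fun ν hν => (h3 ν hν).imp fun W hW => hW.2⟩
  intro n
  induction n using Nat.strong_induction_on with
  | _ n ih =>
  intro X hX hXn hn
  have hbot : ∀ ν : Multiset ℕ, ν = 0 → ∃ W : Submodule F V, W ≤ X ∧ finrank F W = ν.sum ∧ NondegOn B W ∧ Inv L W :=
    fun ν hν => ⟨⊥, bot_le, by simp [hν], nondegOn_bot, inv_bot⟩
  rcases eq_or_ne X ⊥ with rfl | hne
  · refine ⟨0, by simp, ?_, fun ν hν => hbot ν (Multiset.le_zero.1 hν)⟩
    rw [← hn, finrank_bot]
    simp
  obtain ⟨P, hPX, hP, hPn, hP0, hPp⟩ := exists_unipotent_piece h hB hL hX hXn hne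
  obtain ⟨hX'n, hX'd⟩ := h.finrank_inf_perp hPn hXn hPX
  have hX' : Inv L (X ⊓ perp B P) := hX.inf (inv_perp (injective_of_isom hN hB) hB hP)
  obtain ⟨μ, hμ, hμs, hμall⟩ := ih _ (by omega) _ hX' hX'n rfl
  refine ⟨finrank F P ::ₘ μ, ?_, by rw [Multiset.sum_cons, hμs]; omega, fun ν hν => ?_⟩
  · intro a ha
    rcases Multiset.mem_cons.1 ha with rfl | ha
    · exact ⟨hP0, hPp⟩
    · exact hμ a ha
  by_cases hmem : finrank F P ∈ ν
  · obtain ⟨W, hWX, hWd, hWn, hW⟩ := hμall (ν.erase (finrank F P)) (Multiset.erase_le_iff_le_cons.2 hν)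
    have horth : ∀ u ∈ P, ∀ w ∈ W, B u w = 0 := fun u hu w hw => mem_perp.1 (hWX hw).2 u hu
    refine ⟨P ⊔ W, sup_le hPX (hWX.trans inf_le_left), ?_, nondegOn_sup h hPn hWn horth, hP.sup hW⟩
    rw [finrank_sup_orth hPn horth, hWd, ← Multiset.sum_cons, Multiset.cons_erase hmem]
  · obtain ⟨W, hWX, hW⟩ := hμall ν ((Multiset.le_cons_of_notMem hmem).1 hν)
    exact ⟨W, hWX.trans inf_le_left, hW⟩

/-- Invariant non-degenerate subspaces give sub-multisets of the block sizes. -/
theorem sub_partition (h : IsHermitian B) (hN : B.SeparatingRight) (hB : ∀ x y, B (L x) (L y) = B x y)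
    (hL : (L - 1) ^ p = 0) {μ : Multiset ℕ} (hμ : 0 ∉ μ)
    (hr : ∀ k, finrank F (LinearMap.range ((L - 1) ^ k)) = rankSeq μ k)
    {W : Submodule F V} (hW : Inv L W) (hWn : NondegOn B W) :
    ∃ ν : Multiset ℕ, ν ≤ μ ∧ ν.sum = finrank F W := by
  have hinv : ∀ U : Submodule F V, Inv L U → U.map (L - 1) ≤ U := fun U hU => by
    rintro _ ⟨x, hx, rfl⟩
    exact U.sub_mem (hU.mem hx) hx
  have hW' := inv_perp (injective_of_isom hN hB) hB hW
  obtain ⟨ν, hν0, hν⟩ := exists_blocks (L - 1) hL W (hinv W hW)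
  obtain ⟨ν', hν'0, hν'⟩ := JordanRanks.exists_blocks (L - 1) hL (perp B W) (hinv _ hW')
  have heq : ν + ν' = μ := rankSeq_injective (by simp [hν0, hν'0]) hμ fun k => by
    rw [rankSeq_add, hν, hν', ← hr, finrank_range_pow_eq_add (L - 1) hWn.isCompl (hinv W hW) (hinv _ hW')]
  refine ⟨ν, heq ▸ Multiset.le_add_right ν ν', ?_⟩
  rw [← rankSeq_zero, hν, pow_zero, Module.End.one_eq_id, Submodule.map_id]

theorem det_eq_one_of_unipotent (hL : L ^ p = 1) : LinearMap.det L = 1 := by
  refine frobenius_inj F p ?_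
  rw [frobenius_def, frobenius_def, one_pow, ← map_pow, hL, map_one]

end

/-- One block. -/
theorem exists_one_block (hσc : IsConjugation σ) {a : ℕ} (ha : 0 < a) (hap : a ≤ p) :
    ∃ L : Module.End F (Fin a → F), (∀ u v, stdHerm σ a (L u) (L v) = stdHerm σ a u v) ∧ (L - 1) ^ p = 0 ∧
      ∀ k, finrank F (LinearMap.range ((L - 1) ^ k)) = a - k := by
  obtain ⟨a, rfl⟩ : ∃ a', a = a' + 1 := ⟨a - 1, by omega⟩
  let B₀ : (Fin (a + 1) → F) →ₛₗ[σ] (Fin (a + 1) → F) →ₗ[F] F :=
    (stdHerm σ (a + 1)).compl₂ (LinearMap.funLeft F F Fin.rev)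
  have hB₀ : ∀ u v, B₀ u v = ∑ i, σ (u i) * v i.rev := fun u v => rfl
  have h₀ : IsHermitian B₀ := ⟨hσc, fun u v => by
    rw [hB₀, hB₀, map_sum, ← Equiv.sum_comp Fin.revPerm]
    exact Finset.sum_congr rfl fun i _ => by simp [hσc.invol, mul_comm]⟩
  have hN₀ : B₀.SeparatingRight := fun y hy => funext fun i => by
    have h1 := hy (Pi.single i.rev 1)
    rw [hB₀, Finset.sum_eq_single i.rev (fun j _ hj => by simp [hj]) (by simp)] at h1
    simpa using h1
  obtain ⟨c, hc0, hc⟩ := hσc.exists_trace_zero
  let N : Module.End F (Fin (a + 1) → F) :=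
    { toFun := fun v => Fin.cons 0 fun i => c * v i.castSucc
      map_add' := fun u v => by
        funext i
        induction i using Fin.cases <;> simp [mul_add]
      map_smul' := fun s v => by
        funext i
        induction i using Fin.cases <;> simp [mul_left_comm] }
  have hNa : ∀ v, N v = Fin.cons 0 fun i => c * v i.castSucc := fun v => rfl
  have hskew : ∀ u v, B₀ (N u) v + B₀ u (N v) = 0 := fun u v => by
    rw [hB₀, hB₀, Fin.sum_univ_succ, Fin.sum_univ_castSucc, hNa, hNa]
    simp only [Fin.cons_zero, map_zero, zero_mul, zero_add, Fin.cons_succ, Fin.rev_castSucc, Fin.rev_succ,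
      Fin.rev_last, mul_zero, add_zero, map_mul]
    rw [← Finset.sum_add_distrib]
    refine Finset.sum_eq_zero fun i _ => ?_
    linear_combination (σ (u i.castSucc) * v i.rev.castSucc) * hc
  have hpow : ∀ (k : ℕ) v (i : Fin (a + 1)),
      (N ^ k) v i = if h : k ≤ i.1 then c ^ k * v ⟨i.1 - k, by omega⟩ else 0 := fun k => by
    induction k with
    | zero => intro v i; simp
    | succ k ih =>
      intro v i
      rw [pow_succ', Module.End.mul_apply, hNa]
      induction i using Fin.cases with
      | zero => simp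
      | succ i =>
        rw [Fin.cons_succ, ih]
        by_cases hki : k ≤ i.1
        · rw [dif_pos (by simpa using hki), dif_pos (by simpa using hki), pow_succ]
          simp only [Fin.val_succ, Fin.val_castSucc, Nat.add_sub_add_right]
          ring
        · rw [dif_neg (by simpa using hki), dif_neg (by simpa using hki), mul_zero]
  have hrank : ∀ k, finrank F (LinearMap.range (N ^ k)) = a + 1 - k := fun k => by
    rcases le_or_gt k (a + 1) with hk | hk
    swap
    · rw [show N ^ k = 0 from LinearMap.ext fun v => funext fun i => by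
        rw [hpow, dif_neg (by omega)]; rfl, LinearMap.range_zero, finrank_bot]
      omega
    let φ : (Fin (a + 1) → F) →ₗ[F] (Fin (a + 1 - k) → F) :=
      c ^ k • LinearMap.funLeft F F fun t => ⟨t.1, by omega⟩
    let ψ : (Fin (a + 1 - k) → F) →ₗ[F] (Fin (a + 1) → F) :=
      { toFun := fun w i => if h : k ≤ i.1 then w ⟨i.1 - k, by omega⟩ else 0
        map_add' := fun v w => by funext i; simp only [Pi.add_apply]; split_ifs <;> simp
        map_smul' := fun c v => by funext i; simp only [Pi.smul_apply, RingHom.id_apply]; split_ifs <;> simp }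
    have hcomp : N ^ k = ψ ∘ₗ φ := LinearMap.ext fun v => funext fun i => by
      rw [hpow]
      rfl
    have hφ : Function.Surjective φ := fun w => by
      obtain ⟨v, hv⟩ := LinearMap.funLeft_surjective_of_injective F F
        (fun t : Fin (a + 1 - k) => (⟨t.1, by omega⟩ : Fin (a + 1)))
        (fun s t hst => by
          simp only [Fin.mk.injEq] at hst
          exact Fin.ext hst) ((c ^ k)⁻¹ • w)
      refine ⟨v, ?_⟩
      simp only [φ, LinearMap.smul_apply, hv, smul_smul, mul_inv_cancel₀ (pow_ne_zero k hc0), one_smul]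
    have hψ : Function.Injective ψ := fun v w hvw => funext fun t => by
      have := congrFun hvw ⟨t.1 + k, by omega⟩
      simpa [ψ] using this
    rw [hcomp, LinearMap.range_comp_of_range_eq_top _ (LinearMap.range_eq_top.2 hφ),
      LinearMap.finrank_range_of_inj hψ, Module.finrank_fin_fun]
  have hNp : N ^ p = 0 := LinearMap.ext fun v => funext fun i => by
    rw [hpow, dif_neg (by omega)]; rfl
  obtain ⟨y, hy, hyr⟩ : ∃ y : Module.End F (Fin (a + 1) → F), (∀ u v, B₀ (y u) (y v) = B₀ u v) ∧
      ∀ k, LinearMap.range ((y - 1) ^ k) = LinearMap.range (N ^ k) := by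
    rcases (Fact.out : p.Prime).eq_two_or_odd' with hp2 | hodd
    · refine ⟨1 + N, fun u v => ?_, fun k => by rw [add_sub_cancel_left]⟩
      have hNN : ∀ w, N (N w) = 0 := fun w => by
        rw [← Module.End.mul_apply, ← sq, ← hp2, hNp, LinearMap.zero_apply]
      have h1 := hskew u (N v)
      rw [hNN, map_zero, add_zero] at h1
      have h2 := hskew u v
      simp only [LinearMap.add_apply, Module.End.one_apply, map_add]
      linear_combination h1 + h2
    · set P : Module.End F (Fin (a + 1) → F) := ∑ j ∈ Finset.range p, (-N) ^ j with hPd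
      have hP1 : (1 + N) * P = 1 := by
        have h1 := mul_geom_sum (-N) p
        have hneg : (-N) ^ p = 0 := by rw [← neg_one_smul F N, _root_.smul_pow, hNp, smul_zero]
        rw [hneg, zero_sub] at h1
        rw [← neg_inj, ← h1, hPd, ← neg_mul]
        congr 1
        abel
      have hcomm : Commute N P := Commute.sum_right _ _ _ fun j _ => ((Commute.refl N).neg_right).pow_right j
      refine ⟨(1 - N) * P, fun u v => ?_, fun k => ?_⟩
      · have hu : ∀ x, x = P x + N (P x) := fun x => by
          conv_lhs => rw [← Module.End.one_apply (R := F) x, ← hP1]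
          simp [add_mul]
        rw [Module.End.mul_apply, Module.End.mul_apply]
        conv_rhs => rw [hu u, hu v]
        have h2 := hskew (P u) (P v)
        simp only [LinearMap.sub_apply, Module.End.one_apply, map_add, map_sub, LinearMap.add_apply]
        linear_combination (-2 : F) * h2
      · have h1 : (1 - N) * P - 1 = N * ((-2 : F) • P) := by
          conv_lhs => arg 2; rw [← hP1]
          rw [sub_mul, one_mul, add_mul, one_mul, mul_smul_comm, show ((-2 : F) • (N * P)) = -(N * P) - N * P from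
            LinearMap.ext fun w => by simp [two_smul]; abel]
          abel
        have h2 : IsUnit ((-2 : F) • P) := by
          have hPu : IsUnit P := ⟨⟨P, 1 + N, ((Commute.one_right P).add_right hcomm.symm).eq.trans hP1, hP1⟩, rfl⟩
          have h2F : (-2 : F) ≠ 0 := neg_ne_zero.2 fun h0 => by
            have := (CharP.cast_eq_zero_iff F p 2).1 (by exact_mod_cast h0)
            have := (Nat.prime_dvd_prime_iff_eq (Fact.out : p.Prime) Nat.prime_two).1 this
            rw [this] at hodd
            exact absurd hodd (by decide)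
          rw [Algebra.smul_def]
          exact (h2F.isUnit.map (algebraMap F _)).mul hPu
        rw [h1, (hcomm.smul_right _).mul_pow]
        exact LinearMap.range_comp_of_range_eq_top _ (LinearMap.range_eq_top.2
          ((Module.End.isUnit_iff _).1 (h2.pow k)).2)
  obtain ⟨e, he⟩ := h₀.exists_isometry (stdHerm_isHermitian hσc (a + 1)) hN₀ (stdHerm_sepRight _) rfl
  let L : Module.End F (Fin (a + 1) → F) := e.conjAlgEquiv F y
  have hLk : ∀ k, finrank F (LinearMap.range ((L - 1) ^ k)) = a + 1 - k := fun k => by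
    have h1 : (L - 1) ^ k = e.conjAlgEquiv F ((y - 1) ^ k) := by simp [L]
    rw [h1, show e.conjAlgEquiv F ((y - 1) ^ k) = e.toLinearMap.comp (((y - 1) ^ k).comp e.symm.toLinearMap) from
      LinearMap.ext fun v => by simp [LinearEquiv.conjAlgEquiv_apply],
      LinearMap.range_comp, LinearMap.range_comp_of_range_eq_top _ (LinearMap.range_eq_top.2 e.symm.surjective),
      hyr, LinearEquiv.finrank_map_eq, hrank]
  refine ⟨L, fun u v => ?_, ?_, hLk⟩
  · simp only [L, LinearEquiv.conjAlgEquiv_apply, LinearMap.comp_apply, LinearEquiv.coe_coe, he, hy]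
    rw [← he, e.apply_symm_apply, e.apply_symm_apply]
  · exact LinearMap.range_eq_bot.1 (Submodule.finrank_eq_zero.1 (by rw [hLk]; omega))

/-- All block sizes at most `p` occur. -/
theorem exists_unipotent (hσc : IsConjugation σ) (μ : Multiset ℕ) (hμ : ∀ a ∈ μ, 0 < a ∧ a ≤ p) :
    ∀ n, μ.sum = n → ∃ L : Module.End F (Fin n → F), (∀ u v, stdHerm σ n (L u) (L v) = stdHerm σ n u v) ∧
      (L - 1) ^ p = 0 ∧ ∀ k, finrank F (LinearMap.range ((L - 1) ^ k)) = rankSeq μ k := by
  induction μ using Multiset.induction_on with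
  | empty =>
    rintro n rfl
    refine ⟨1, fun u v => rfl, ?_, fun k => ?_⟩
    · rw [sub_self, zero_pow (Fact.out : p.Prime).ne_zero]
    · haveI : Subsingleton (Fin (0 : Multiset ℕ).sum → F) := by rw [Multiset.sum_zero]; infer_instance
      rw [show rankSeq 0 k = 0 by simp [rankSeq], Submodule.finrank_eq_zero, eq_bot_iff]
      intro x _
      rw [Submodule.mem_bot]
      exact Subsingleton.elim _ _
  | cons a μ ih =>
    rintro n rfl
    obtain ⟨L₁, hB₁, hN₁, hr₁⟩ := exists_one_block (σ := σ) (F := F) (p := p) hσc (hμ a (Multiset.mem_cons_self _ _)).1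
      (hμ a (Multiset.mem_cons_self _ _)).2
    obtain ⟨L₂, hB₂, hN₂, hr₂⟩ := ih (fun b hb => hμ b (Multiset.mem_cons_of_mem hb)) _ rfl
    let ε : Fin (a ::ₘ μ).sum ≃ Fin a ⊕ Fin μ.sum :=
      (finCongr (Multiset.sum_cons a μ)).trans finSumFinEquiv.symm
    let Ψ : (Fin (a ::ₘ μ).sum → F) ≃ₗ[F] (Fin a → F) × (Fin μ.sum → F) :=
      (LinearEquiv.funCongrLeft F F ε.symm).trans (LinearEquiv.sumArrowLequivProdArrow _ _ F F)
    have hform : ∀ u v, stdHerm σ _ u v = stdHerm σ a (Ψ u).1 (Ψ v).1 + stdHerm σ μ.sum (Ψ u).2 (Ψ v).2 :=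
      fun u v => by
        simp only [stdHerm_apply]
        rw [← ε.symm.sum_comp, Fintype.sum_sum_type]
        rfl
    let L : Module.End F (Fin (a ::ₘ μ).sum → F) := Ψ.symm.conjAlgEquiv F (L₁.prodMap L₂)
    have hk : ∀ k, (L - 1) ^ k = Ψ.symm.conjAlgEquiv F (((L₁ - 1) ^ k).prodMap ((L₂ - 1) ^ k)) := fun k => by
      have h1 : L - 1 = Ψ.symm.conjAlgEquiv F ((L₁ - 1).prodMap (L₂ - 1)) := by
        have h2 : (L₁ - 1).prodMap (L₂ - 1) = L₁.prodMap L₂ - 1 :=
          LinearMap.ext fun w => Prod.ext (by simp) (by simp)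
        rw [h2, map_sub, map_one]
      rw [h1, ← map_pow]
      congr 1
      induction k with
      | zero => exact LinearMap.ext fun w => rfl
      | succ k ih => rw [pow_succ, ih, pow_succ, pow_succ]; exact LinearMap.ext fun w => rfl
    refine ⟨L, fun u v => ?_, ?_, fun k => ?_⟩
    · rw [hform, hform u v]
      simp only [L, LinearEquiv.conjAlgEquiv_apply, LinearMap.comp_apply, LinearEquiv.coe_coe, LinearEquiv.symm_symm,
        Ψ.apply_symm_apply, LinearMap.prodMap_apply, hB₁, hB₂]
    · rw [hk, hN₁, hN₂, show (0 : Module.End F (Fin a → F)).prodMap (0 : Module.End F (Fin μ.sum → F)) = 0 from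
        LinearMap.ext fun w => rfl, map_zero]
    · rw [hk, show ∀ T, Ψ.symm.conjAlgEquiv F T = Ψ.symm.toLinearMap.comp (T.comp Ψ.toLinearMap) from fun T =>
        LinearMap.ext fun v => by simp [LinearEquiv.conjAlgEquiv_apply],
        LinearMap.range_comp, LinearMap.range_comp_of_range_eq_top _ (LinearMap.range_eq_top.2 Ψ.surjective),
        LinearEquiv.finrank_map_eq]
      set f := (L₁ - 1) ^ k
      set g := (L₂ - 1) ^ k
      have hrg : LinearMap.range (f.prodMap g) =
          LinearMap.range ((LinearMap.range f).subtype.prodMap (LinearMap.range g).subtype) := by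
        rw [LinearMap.range_prodMap, LinearMap.range_prodMap, Submodule.range_subtype, Submodule.range_subtype]
      rw [hrg, LinearMap.finrank_range_of_inj (fun x y hxy => Prod.ext (Subtype.ext (congrArg Prod.fst hxy))
        (Subtype.ext (congrArg Prod.snd hxy))), Module.finrank_prod, hr₁, hr₂]
      simp [rankSeq]

/-- A unipotent element without a non-degenerate invariant subspace of dimension `m`. -/
theorem witness_unipotent (hσc : IsConjugation σ) {n m : ℕ} (hmn : m ≤ n) (μ : Multiset ℕ)
    (hμ : ∀ a ∈ μ, 0 < a ∧ a ≤ p) (hμs : μ.sum = n) (hbad : ∀ ν ≤ μ, ν.sum ≠ m) :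
    ∃ L : Module.End F (Fin n → F), LinearMap.det L = 1 ∧ (∀ u v, stdHerm σ n (L u) (L v) = stdHerm σ n u v) ∧
      L ^ p = algebraMap F (Module.End F (Fin n → F)) 1 ∧
      (∀ z : F, L ≠ algebraMap F (Module.End F (Fin n → F)) z) ∧
      ∀ W, Inv L W → NondegOn (stdHerm σ n) W → finrank F W ≠ m := by
  obtain ⟨L, hB, hLn, hr⟩ := exists_unipotent (F := F) hσc μ hμ n hμs
  have hLp := pow_char_eq_one hLn
  refine ⟨L, det_eq_one_of_unipotent hLp, hB, by rw [map_one, hLp], fun z hz => ?_, fun W hW hWn hWd => ?_⟩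
  · have h1 : ∀ a ∈ μ, a = 1 := by
      intro a ha
      obtain ⟨ha0, -⟩ := hμ a ha
      rcases Nat.eq_zero_or_pos n with hn | hn
      · have := Multiset.le_sum_of_mem ha
        omega
      haveI : Nontrivial (Fin n → F) := Module.nontrivial_of_finrank_pos (R := F) (by rwa [Module.finrank_fin_fun])
      have h2 : z ^ p = 1 := (algebraMap F (Module.End F (Fin n → F))).injective (by rw [map_pow, ← hz, hLp, map_one])
      have h3 : z = 1 := frobenius_inj F p (by rw [frobenius_def, frobenius_def, one_pow, h2])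
      have h4 := hr 1
      rw [hz, h3, map_one, sub_self, pow_one, LinearMap.range_zero, finrank_bot, rankSeq] at h4
      have h5 := Multiset.le_sum_of_mem (Multiset.mem_map_of_mem (fun b => b - 1) ha)
      omega
    refine hbad (Multiset.replicate m 1) ?_ (by simp)
    obtain ⟨k, rfl⟩ : ∃ k, μ = Multiset.replicate k 1 := ⟨_, Multiset.eq_replicate_card.2 h1⟩
    simp only [Multiset.sum_replicate, smul_eq_mul, mul_one] at hμs
    exact (Multiset.replicate_le_replicate 1).2 (by omega)
  · obtain ⟨ν, hν, hνs⟩ := sub_partition (stdHerm_isHermitian hσc n) (stdHerm_sepRight n) hB hLn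
      (fun h0 => absurd (hμ 0 h0).1 (lt_irrefl _)) hr hW hWn
    exact hbad ν hν (hνs.trans hWd)

/-- Sub-sums when all parts are at most two. -/
theorem exists_subsum_two {n m : ℕ} (hmn : m ≤ n) (h : Odd n ∨ Even m) (μ : Multiset ℕ)
    (hμ : ∀ a ∈ μ, 0 < a ∧ a ≤ 2) (hμs : μ.sum = n) : ∃ ν ≤ μ, ν.sum = m := by
  have hdec : μ = Multiset.replicate (μ.count 1) 1 + Multiset.replicate (μ.count 2) 2 := by
    ext a
    rw [Multiset.count_add, Multiset.count_replicate, Multiset.count_replicate]
    by_cases ha : a ∈ μ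
    · have := hμ a ha
      obtain rfl | rfl : a = 1 ∨ a = 2 := by omega
      · simp
      · simp
    · rw [Multiset.count_eq_zero_of_notMem ha]
      split_ifs with h1 h2 h2 <;> subst_vars <;> simp [Multiset.count_eq_zero_of_notMem ha] at *
  rw [hdec] at hμs
  simp only [Multiset.sum_add, Multiset.sum_replicate, smul_eq_mul, mul_one] at hμs
  have hb : m ≤ μ.count 1 + 2 * min (μ.count 2) (m / 2) := by
    rcases h with hn | hm
    · obtain ⟨s, hs⟩ := hn; omega
    · obtain ⟨s, hs⟩ := hm; omega
  refine ⟨Multiset.replicate (m - 2 * min (μ.count 2) (m / 2)) 1 + Multiset.replicate (min (μ.count 2) (m / 2)) 2, ?_, ?_⟩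
  · conv_rhs => rw [hdec]
    exact add_le_add ((Multiset.replicate_le_replicate 1).2 (by omega))
      ((Multiset.replicate_le_replicate 2).2 (by omega))
  · simp only [Multiset.sum_add, Multiset.sum_replicate, smul_eq_mul, mul_one]
    omega

end CfsgLib.Derangements.UnitElusive
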