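import Cfsg.Agent.Lib.Derangements.UnitaryElusive.Invariant
import Cfsg.Agent.Lib.Derangements.NullInvariantWitness

/-!
# Unitary maps of prime order with few invariant subspaces
-/

set_option autoImplicit false
set_option linter.unusedSectionVars false

namespace CfsgLib.Derangements.UnitElusive

open Module Polynomial CfsgLib.Classical CfsgLib.Derangements.LinElusive

variable {F : Type*} [Field F] [Fintype F] {σ : F →+* F} {q r : ℕ} [Fact r.Prime]

section

variable {V : Type*} [AddCommGroup V] [Module F V] [FiniteDimensional F V] {B : V →ₛₗ[σ] V →ₗ[F] F}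
  {L : Module.End F V}

theorem det_pow_norm (hσ : ∀ x, σ x = x ^ q) (h : IsHermitian B) (hN : B.SeparatingRight)
    (hB : ∀ x y, B (L x) (L y) = B x y) : LinearMap.det L ^ (q + 1) = 1 := by
  obtain ⟨g, hg⟩ := h.exists_of_preserving hN L hB
  have h1 := h.idet_norm hN g
  have h2 : idet B g = LinearMap.det L := congrArg LinearMap.det (LinearMap.ext hg : (g.1 : V →ₗ[F] V) = L)
  rw [h2, hσ, ← pow_succ'] at h1
  exact h1

theorem eq_one_of_coprime_norm (hd : ¬ r ∣ q + 1) {z : F} (h1 : z ^ r = 1) (h2 : z ^ (q + 1) = 1) : z = 1 := by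
  have := pow_gcd_eq_one.2 ⟨h1, h2⟩
  rwa [((Fact.out : r.Prime).coprime_iff_not_dvd.2 hd).gcd_eq_one, pow_one] at this

theorem det_eq_one (hσ : ∀ x, σ x = x ^ q) (h : IsHermitian B) (hN : B.SeparatingRight)
    (hB : ∀ x y, B (L x) (L y) = B x y) (hd : ¬ r ∣ q + 1) (hL : L ^ r = 1) : LinearMap.det L = 1 :=
  eq_one_of_coprime_norm hd (by rw [← map_pow, hL, map_one]) (det_pow_norm hσ h hN hB)

theorem not_scalar [Nontrivial V] (hσ : ∀ x, σ x = x ^ q) (h : IsHermitian B) (hN : B.SeparatingRight)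
    (hB : ∀ x y, B (L x) (L y) = B x y) (hd : ¬ r ∣ q + 1) (hL : L ^ r = 1)
    (hC : finrank F (L.eigenspace 1) < finrank F V) : ∀ z : F, L ≠ algebraMap F (Module.End F V) z := by
  intro z hz
  have h1 : z ^ r = 1 := (algebraMap F (Module.End F V)).injective (by rw [map_pow, ← hz, hL, map_one])
  have h2 := norm_of_scalar (j := 1) h hN hσ hB (by rw [pow_one]; exact hz)
  rw [eq_one_of_coprime_norm hd h1 h2, map_one] at hz
  have htop : L.eigenspace 1 = ⊤ := eq_top_iff.2 fun v _ => by
    rw [Module.End.mem_eigenspace_iff, one_smul, hz, Module.End.one_apply]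
  rw [htop, finrank_top] at hC
  exact lt_irrefl _ hC

/-- A bound for null invariant subspaces from the dimensions of the kernels of the factors. -/
theorem null_bound (hF : Fintype.card F = q ^ 2) (hσ : ∀ x, σ x = x ^ q) (h : IsHermitian B)
    (hN : B.SeparatingRight) (hB : ∀ x y, B (L x) (L y) = B x y) (hr : (r : F) ≠ 0) (hL : L ^ r = 1)
    {b : ℕ} (hbo : b = orderOf (Fintype.card F : ZMod r)) (hb : Odd b) (hqb : (q : ZMod r) ^ b = -1) {l : ℕ}
    (hl : finrank F (L.eigenspace 1) ≤ l) (cnt : F[X] → ℕ)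
    (hcnt : ∀ g : F[X], Irreducible g → g.Monic → g.natDegree = b → g ∣ cyclotomic r F →
      finrank F (LinearMap.ker (aeval L g)) ≤ cnt g * b)
    {T : ℕ} (hT : ∀ S : Finset F[X], ∑ g ∈ S, cnt g / 2 ≤ T) {W : Submodule F V} (hW : Inv L W)
    (hWn : Null B W) : finrank F W ≤ l / 2 + T * b := by
  classical
  obtain ⟨E, hc, hs, hu, hsum⟩ := exists_structure hr hL
  rw [← hbo] at hu
  obtain ⟨-, hEn, hCn⟩ := moved_facts h hN hB hc hu.inv
  have hfix := (hWn.mono (inf_le_left : W ⊓ L.eigenspace 1 ≤ W)).two_mul_le_on h hCn inf_le_right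
  obtain ⟨S, -, hSprod, hS⟩ := NullInv.exists_factors (F := F) (r := r) hr
  have hker := NullInv.le_ker_cyclotomic hL hu.inv hc.disjoint
  have hWE := hW.inf hu.inv
  have hbound : ∀ g ∈ S, finrank F (W ⊓ E ⊓ LinearMap.ker (aeval L g) : Submodule F V) ≤ cnt g / 2 * b := by
    intro g hg
    obtain ⟨hgi, hgm, hgd, hgc⟩ := hS g hg
    rw [← hbo] at hgd
    have hKn : NondegOn B (E ⊓ LinearMap.ker (aeval L g)) :=
      nondegOn_ker_factor hF hσ hB hb (pow_mul_self_eq_one hL hqb) hu.inv hEn
        (coprime_cofactor (fun f hf => ⟨(hS f hf).1, (hS f hf).2.1⟩) hg) fun x hx => by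
          rw [Finset.mul_prod_erase S (fun f => f) hg, hSprod]
          exact hker hx
    obtain ⟨j, hj⟩ := hu.dvd _ (inf_le_left.trans inf_le_right) (hWE.inf (NullInv.inv_ker g))
    have h1 := (hWn.mono (inf_le_left.trans inf_le_left : W ⊓ E ⊓ LinearMap.ker (aeval L g) ≤ W)).two_mul_le_on h hKn
      (inf_le_inf_right _ inf_le_right)
    have h2 := (Submodule.finrank_mono (inf_le_right : E ⊓ LinearMap.ker (aeval L g) ≤ _)).trans (hcnt g hgi hgm hgd hgc)
    rw [hj] at h1 ⊢
    rw [mul_comm b j]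
    refine Nat.mul_le_mul_right b ((Nat.le_div_iff_mul_le two_pos).2 (Nat.le_of_mul_le_mul_right ?_ hu.pos))
    rw [show j * 2 * b = 2 * (b * j) by ring]
    exact h1.trans h2
  have hE := NullInv.finrank_ker_prod_le (L := L) hWE S
  rw [hSprod, inf_eq_left.2 (inf_le_right.trans hker)] at hE
  have h3 := hE.trans (Finset.sum_le_sum hbound)
  rw [← Finset.sum_mul] at h3
  have h4 := h3.trans (Nat.mul_le_mul_right b (hT S))
  rw [hsum W hW]
  omega

end

/-- A fixed point free isometry of order `r` in the smallest possible dimension. -/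
theorem exists_small (hF : Fintype.card F = q ^ 2) (hσ : ∀ x, σ x = x ^ q) (hσc : IsConjugation σ)
    (hr : (r : F) ≠ 0) {c : ℕ} (hc : c = orderOf (-(q : ZMod r))) (hc0 : 0 < c) :
    ∃ L : Module.End F (Fin c → F), L ^ r = 1 ∧ (∀ u v, stdHerm σ c (L u) (L v) = stdHerm σ c u v) ∧
      ∀ v, L v = v → v = 0 := by
  have h := stdHerm_isHermitian hσc c
  have hN := stdHerm_sepRight (σ := σ) c
  have hrq := (natCast_ne_zero_iff hF).1 hr
  have hdvd : r ∣ Nat.card (isomGroup (stdHerm σ c)) := by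
    rw [card_isom_fac hF hσ h hN, Module.finrank_fin_fun]
    refine Dvd.dvd.mul_left ?_ _
    refine dvd_trans ?_ (Finset.dvd_prod_of_mem _ (Finset.mem_range.2 (show c - 1 < c by omega)))
    rw [dvd_unitFac_iff (by have := two_le_of_card_sq hF; omega), Nat.sub_add_cancel hc0, ← hc]
  haveI : Finite (isomGroup (stdHerm σ c)) := by
    exact Finite.of_injective (fun g : isomGroup (stdHerm σ c) => (g.1 : (Fin c → F) → (Fin c → F)))
      fun a b hab => Subtype.ext (LinearEquiv.ext fun x => congrFun hab x)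
  obtain ⟨g, hg⟩ := exists_prime_orderOf_dvd_card' (G := isomGroup (stdHerm σ c)) r hdvd
  let L : Module.End F (Fin c → F) := g.1.toLinearMap
  have hpow : ∀ (i : ℕ) (x : Fin c → F), (L ^ i) x = (g ^ i).1 x := fun i => by
    induction i with
    | zero => intro x; rfl
    | succ i ih => intro x; rw [pow_succ', pow_succ', Module.End.mul_apply, ih]; rfl
  have hLr : L ^ r = 1 := LinearMap.ext fun x => by rw [hpow, ← hg, pow_orderOf_eq_one]; rfl
  have hB : ∀ u v, stdHerm σ c (L u) (L v) = stdHerm σ c u v := g.2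
  obtain ⟨E, hE, -, hu, -⟩ := exists_structure hr hLr
  obtain ⟨-, hEn, -⟩ := moved_facts h hN hB hE hu.inv
  refine ⟨L, hLr, hB, fun v hv => ?_⟩
  have hne : E ≠ ⊥ := fun h0 => by
    have h1 : L.eigenspace 1 = ⊤ := by simpa [h0] using hE.sup_eq_top
    have h2 : g = 1 := Subtype.ext (LinearEquiv.ext fun x => by
      have := Module.End.mem_eigenspace_iff.1 (h1.symm ▸ Submodule.mem_top : x ∈ L.eigenspace 1)
      rwa [one_smul] at this)
    rw [h2, orderOf_one] at hg
    exact (Fact.out : r.Prime).one_lt.ne hg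
  let M : Module.End F E := L.restrict fun u hu' => hu.inv.mem hu'
  obtain ⟨j, hj0, hj, hjd⟩ := exists_exp_of_isom hF hσ (h.restrict E) (restrictForm_separatingRight hEn) hrq (L := M)
    (fun x y => hB _ _) (LinearMap.ext fun x => Subtype.ext (by
      rw [Module.End.pow_restrict]
      simp [hLr]))
    fun hM => hne (eq_bot_iff.2 fun x hx => Submodule.disjoint_def.1 hE.disjoint x
      (by rw [Module.End.mem_eigenspace_iff, one_smul]; exact congrArg Subtype.val (LinearMap.congr_fun hM ⟨x, hx⟩))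
      hx)
  rw [← hc] at hjd
  have h1 := Submodule.finrank_add_eq_of_isCompl hE
  rw [Module.finrank_fin_fun] at h1
  have := Nat.le_of_dvd hj0 hjd
  have hC : L.eigenspace 1 = ⊥ := Submodule.finrank_eq_zero.1 (by omega)
  have hvC : v ∈ L.eigenspace 1 := by rwa [Module.End.mem_eigenspace_iff, one_smul]
  rwa [hC, Submodule.mem_bot] at hvC

/-- Fixed point free isometries of each type in the self-paired case. -/
theorem exists_typed (hF : Fintype.card F = q ^ 2) (hσ : ∀ x, σ x = x ^ q) (hσc : IsConjugation σ)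
    (hr : (r : F) ≠ 0) {b : ℕ} (hbo : b = orderOf (Fintype.card F : ZMod r)) (hc : b = orderOf (-(q : ZMod r)))
    (hb0 : 0 < b) {g : F[X]} (hgi : Irreducible g) (hgd : g ∣ cyclotomic r F) :
    ∃ L : Module.End F (Fin b → F), L ^ r = 1 ∧ (∀ u v, stdHerm σ b (L u) (L v) = stdHerm σ b u v) ∧
      (∀ v, L v = v → v = 0) ∧ aeval L g = 0 := by
  obtain ⟨L, hLr, hB, hfix⟩ := exists_small hF hσ hσc hr hc hb0
  obtain ⟨E, hE, hs, hu, -⟩ := exists_structure hr hLr
  rw [← hbo] at hu
  have hC : L.eigenspace 1 = ⊥ := eq_bot_iff.2 fun v hv => by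
    rw [Module.End.mem_eigenspace_iff, one_smul] at hv
    exact hfix v hv
  have hEtop : E = ⊤ := by simpa [hC] using hE.sup_eq_top
  obtain ⟨S, -, hSprod, hS⟩ := NullInv.exists_factors (F := F) (r := r) hr
  obtain ⟨g₀, hg₀, hne⟩ : ∃ g₀ ∈ S, E ⊓ LinearMap.ker (aeval L g₀) ≠ ⊥ := by
    by_contra hcon
    push Not at hcon
    have h1 := NullInv.finrank_ker_prod_le (L := L) hu.inv S
    rw [hSprod, inf_eq_left.2 (NullInv.le_ker_cyclotomic hLr hu.inv hE.disjoint),
      Finset.sum_eq_zero fun g hg => Submodule.finrank_eq_zero.2 (hcon g hg), hEtop, finrank_top,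
      Module.finrank_fin_fun] at h1
    omega
  have htop : LinearMap.ker (aeval L g₀) = ⊤ := by
    rw [hEtop, top_inf_eq] at hne
    refine Submodule.eq_top_of_finrank_eq (le_antisymm (Submodule.finrank_le _) ?_)
    have h2 := hu.dvd _ (hEtop ▸ le_top) (NullInv.inv_ker (L := L) g₀)
    rw [Module.finrank_fin_fun]
    exact Nat.le_of_dvd (Nat.pos_of_ne_zero fun h0 => hne (Submodule.finrank_eq_zero.1 h0)) h2
  obtain ⟨j, hj, hjg⟩ := NullInv.exists_pow_root hr (hS g₀ hg₀).1 (hS g₀ hg₀).2.2.2 hgi hgd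
    (x := L) (LinearMap.ker_eq_top.1 htop)
  refine ⟨L ^ j, by rw [← pow_mul, mul_comm, pow_mul, hLr, one_pow], fun u v => pow_isom hB j u v, fun v hv => ?_, hjg⟩
  obtain ⟨k, hk⟩ := Nat.exists_mul_mod_eq_one_of_coprime
    (Nat.coprime_comm.1 ((Fact.out : r.Prime).coprime_iff_not_dvd.2 hj)) (Fact.out : r.Prime).one_lt
  have h2 : ∀ n : ℕ, ((L ^ j) ^ n) v = v := fun n => by
    induction n with
    | zero => simp
    | succ n ih => rw [pow_succ', Module.End.mul_apply, ih, hv]
  have h3 := h2 k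
  rw [← pow_mul, ← Nat.mod_add_div (j * k) r, hk.2, pow_add, pow_mul, hLr, one_pow, mul_one, pow_one] at h3
  exact hfix v h3

/-- Orthogonal sums of blocks and a fixed space. -/
theorem exists_blocks {n k h l : ℕ} (e : Fin n ≃ (Fin k × Fin h) ⊕ Fin l) (X : Fin k → Module.End F (Fin h → F))
    {j : ℕ} (z : F) (hz : z = 1 ∨ l = 0) (hX : ∀ a, X a ^ j = algebraMap F (Module.End F (Fin h → F)) z)
    (hB : ∀ a u v, stdHerm σ h (X a u) (X a v) = stdHerm σ h u v) :
    ∃ L : Module.End F (Fin n → F), L ^ j = algebraMap F (Module.End F (Fin n → F)) z ∧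
      (∀ u v, stdHerm σ n (L u) (L v) = stdHerm σ n u v) ∧
      LinearMap.det L = ∏ a, LinearMap.det (X a) ∧
      (∀ y : F, L = algebraMap F (Module.End F (Fin n → F)) y → ∀ a, X a = algebraMap F (Module.End F (Fin h → F)) y) ∧
      ((∀ a v, X a v = v → v = 0) → finrank F (L.eigenspace 1) ≤ l) ∧
      ∀ (f : Fin k → F[X]) (g : F[X]), g.eval 1 ≠ 0 → (∀ a, aeval (X a) (f a) = 0) →
        (∀ a, f a ≠ g → IsCoprime (f a) g) → finrank F (LinearMap.ker (aeval L g)) ≤ Nat.card {a // f a = g} * h := by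
  classical
  let Ψ : (Fin n → F) ≃ₗ[F] (Fin k → Fin h → F) × (Fin l → F) :=
    { toFun := fun v => (fun a s => v (e.symm (Sum.inl (a, s))), fun s => v (e.symm (Sum.inr s)))
      map_add' := fun u v => rfl
      map_smul' := fun c v => rfl
      invFun := fun w i => Sum.elim (fun p => w.1 p.1 p.2) w.2 (e i)
      left_inv := fun v => funext fun i => by
        obtain ⟨x, rfl⟩ := e.symm.surjective i
        rcases x with p | s <;> simp
      right_inv := fun w => Prod.ext (funext fun a => funext fun s => by simp) (funext fun s => by simp) }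
  have hform : ∀ u v, stdHerm σ n u v = (∑ a, stdHerm σ h ((Ψ u).1 a) ((Ψ v).1 a)) + stdHerm σ l (Ψ u).2 (Ψ v).2 :=
    fun u v => by
      simp only [stdHerm_apply]
      rw [← e.symm.sum_comp, Fintype.sum_sum_type, Fintype.sum_prod_type]
      rfl
  let T₀ : Module.End F ((Fin k → Fin h → F) × (Fin l → F)) :=
    LinearMap.prodMap (LinearMap.pi fun a => (X a).comp (LinearMap.proj a)) LinearMap.id
  have hT₀ : ∀ w, T₀ w = (fun a => X a (w.1 a), w.2) := fun w => rfl
  have hTp : ∀ (i : ℕ) w, (T₀ ^ i) w = (fun a => (X a ^ i) (w.1 a), w.2) := fun i => by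
    induction i with
    | zero => intro w; rfl
    | succ i ih => intro w; rw [pow_succ', Module.End.mul_apply, ih, hT₀]; simp only [pow_succ', Module.End.mul_apply]
  have hT₀r : T₀ ^ j = algebraMap F _ z := LinearMap.ext fun w => by
    rw [hTp, Module.algebraMap_end_apply]
    refine Prod.ext (funext fun a => by simp [hX, Module.algebraMap_end_apply]) ?_
    rcases hz with rfl | rfl
    · simp
    · exact funext fun s => s.elim0
  let L : Module.End F (Fin n → F) := Ψ.symm.conjAlgEquiv F T₀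
  have hLa : ∀ v, L v = Ψ.symm (T₀ (Ψ v)) := fun v => by simp [L, LinearEquiv.conjAlgEquiv_apply]
  refine ⟨L, by simp only [L, ← map_pow, hT₀r, AlgEquiv.commutes], fun u v => ?_, ?_, fun y hy a => ?_, fun hfix => ?_,
    fun f g hg1 hfg hco => ?_⟩
  · rw [hform, hform u v, hLa, hLa, Ψ.apply_symm_apply, Ψ.apply_symm_apply, hT₀, hT₀]
    simp only [hB]
  · have h1 : L = (Ψ.symm.toLinearMap.comp T₀).comp Ψ.toLinearMap := LinearMap.ext fun v => hLa v
    rw [h1]
    refine (LinearMap.det_conj T₀ Ψ.symm).trans ?_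
    rw [LinearMap.det_prodMap, LinearMap.det_pi, LinearMap.det_id, mul_one]
  · refine LinearMap.ext fun v => ?_
    have h1 := congrArg Ψ (LinearMap.congr_fun hy (Ψ.symm (Pi.single a v, 0)))
    rw [hLa, Ψ.apply_symm_apply, Ψ.apply_symm_apply, Module.algebraMap_end_apply, map_smul, Ψ.apply_symm_apply, hT₀] at h1
    simpa [Module.algebraMap_end_apply] using congrFun (congrArg Prod.fst h1) a
  · let φ : L.eigenspace 1 →ₗ[F] (Fin l → F) :=
      (LinearMap.snd F _ _).comp (Ψ.toLinearMap.comp (L.eigenspace 1).subtype)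
    have hφ : Function.Injective φ := (injective_iff_map_eq_zero _).2 fun v hv => by
      have h1 := Module.End.mem_eigenspace_iff.1 v.2
      rw [one_smul, hLa, LinearEquiv.symm_apply_eq, hT₀] at h1
      refine Subtype.ext (Ψ.injective ?_)
      rw [Submodule.coe_zero, map_zero]
      exact Prod.ext (funext fun a => hfix a _ (congrFun (congrArg Prod.fst h1) a)) hv
    exact (LinearMap.finrank_le_finrank_of_injective hφ).trans_eq (Module.finrank_fin_fun F)
  · have hcomp : ∀ (p : F[X]) v, (Ψ (aeval L p v)).1 = (fun a => aeval (X a) p ((Ψ v).1 a)) ∧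
        (Ψ (aeval L p v)).2 = p.eval 1 • (Ψ v).2 := fun p v => by
      induction p using Polynomial.induction_on' with
      | add p p' hp hp' =>
        simp only [map_add, LinearMap.add_apply, Prod.fst_add, Prod.snd_add, hp.1, hp.2, hp'.1, hp'.2,
          eval_add, add_smul]
        exact ⟨rfl, trivial⟩
      | monomial i c =>
        have hp : Ψ ((L ^ i) v) = (fun a => (X a ^ i) ((Ψ v).1 a), (Ψ v).2) := by
          simp only [L, ← map_pow]
          rw [LinearEquiv.conjAlgEquiv_apply]
          simp [hTp]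
        simp only [aeval_monomial, Module.End.mul_apply, Module.algebraMap_end_apply, map_smul, hp, Prod.smul_fst,
          Prod.smul_snd, eval_monomial, one_pow, mul_one]
        exact ⟨rfl, trivial⟩
    set K := LinearMap.ker (aeval L g)
    have hsupp : ∀ v ∈ K, (Ψ v).2 = 0 ∧ ∀ a, f a ≠ g → (Ψ v).1 a = 0 := fun v hv => by
      have h0 : aeval L g v = 0 := hv
      obtain ⟨h1, h2⟩ := hcomp g v
      rw [h0, map_zero] at h1 h2
      refine ⟨(smul_eq_zero.1 h2.symm).resolve_left hg1, fun a ha => ?_⟩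
      obtain ⟨p, p', hpp⟩ := hco a ha
      have h3 := congrArg (fun Q => aeval (X a) Q ((Ψ v).1 a)) hpp
      have h4 : aeval (X a) g ((Ψ v).1 a) = 0 := (congrFun h1 a).symm
      simp only [map_add, map_mul, LinearMap.add_apply, Module.End.mul_apply, h4, map_one, hfg,
        LinearMap.zero_apply, map_zero, add_zero, Module.End.one_apply] at h3
      exact h3.symm
    let ρ : K →ₗ[F] ({a // f a = g} → Fin h → F) :=
      LinearMap.pi fun a => (LinearMap.proj a.1).comp ((LinearMap.fst F _ _).comp (Ψ.toLinearMap.comp K.subtype))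
    have hρi : Function.Injective ρ := (injective_iff_map_eq_zero _).2 fun v hv => Subtype.ext <| Ψ.injective <| by
      rw [Submodule.coe_zero, map_zero]
      refine Prod.ext (funext fun a => ?_) (hsupp v v.2).1
      by_cases ha : f a = g
      · exact congrFun hv ⟨a, ha⟩
      · exact (hsupp v v.2).2 a ha
    refine (LinearMap.finrank_le_finrank_of_injective hρi).trans_eq ?_
    rw [Module.finrank_pi_fintype, Finset.sum_const, Finset.card_univ, Module.finrank_fin_fun, smul_eq_mul,
      Nat.card_eq_fintype_card]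

/-- The split of `Fin n` into `k` blocks of size `h` and a rest. -/
noncomputable def blockEquiv {n : ℕ} (k h l : ℕ) (hn : n = k * h + l) : Fin n ≃ (Fin k × Fin h) ⊕ Fin l :=
  (finCongr hn).trans ((finSumFinEquiv (m := k * h) (n := l)).symm.trans (Equiv.sumCongr finProdFinEquiv.symm (Equiv.refl _)))

/-- A witness with as few fixed points as possible. -/
theorem witness_fpf (hF : Fintype.card F = q ^ 2) (hσ : ∀ x, σ x = x ^ q) (hσc : IsConjugation σ)
    (hr : (r : F) ≠ 0) (hd : ¬ r ∣ q + 1) {n b c : ℕ} (hbo : b = orderOf ((q ^ 2 : ℕ) : ZMod r))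
    (hco : c = orderOf (-(q : ZMod r))) (hcase : c = 2 * b ∨ (Odd b ∧ (q : ZMod r) ^ b = -1 ∧ c = b))
    (hb : 0 < b) (hcn : c ≤ n) :
    ∃ L : Module.End F (Fin n → F), LinearMap.det L = 1 ∧ (∀ u v, stdHerm σ n (L u) (L v) = stdHerm σ n u v) ∧
      L ^ r = algebraMap F (Module.End F (Fin n → F)) 1 ∧
      (∀ z : F, L ≠ algebraMap F (Module.End F (Fin n → F)) z) ∧
      ∀ W : Submodule F (Fin n → F), Inv L W →
        (Null (stdHerm σ n) W → ∃ a x, 2 * x ≤ n % c ∧ finrank F W = a * b + x) ∧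
        (NondegOn (stdHerm σ n) W → ∃ a x, x ≤ n % c ∧ finrank F W = a * c + x) := by
  have hc0 : 0 < c := by rcases hcase with h1 | h1 <;> omega
  obtain ⟨X, hX, hXB, hXf⟩ := exists_small hF hσ hσc hr hco hc0
  obtain ⟨L, hLr, hB, -, -, hfix, -⟩ := exists_blocks (σ := σ) (blockEquiv (n / c) c (n % c) (Nat.div_add_mod' n c).symm)
    (fun _ => X) (j := r) (1 : F) (Or.inl rfl) (fun _ => by rw [map_one]; exact hX) (fun _ => hXB)
  have h := stdHerm_isHermitian hσc n
  have hN := stdHerm_sepRight (σ := σ) n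
  have hl := hfix fun _ => hXf
  have hL1 : L ^ r = 1 := by rw [hLr, map_one]
  have hlt : finrank F (L.eigenspace 1) < finrank F (Fin n → F) := by
    rw [Module.finrank_fin_fun]
    have := Nat.mod_lt n hc0
    omega
  haveI : Nontrivial (Fin n → F) := Module.nontrivial_of_finrank_pos (R := F) (by omega)
  refine ⟨L, det_eq_one hσ h hN hB hd hL1, hB, hLr, not_scalar hσ h hN hB hd hL1 hlt, fun W hW => ?_⟩
  obtain ⟨E, hE, hs, hu, hsum⟩ := exists_structure hr hL1
  rw [orderOf_card_eq hF, ← hbo] at hu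
  obtain ⟨horth, hEn, hCn⟩ := moved_facts h hN hB hE hu.inv
  constructor
  · intro hWn
    obtain ⟨a, ha⟩ := hu.dvd _ inf_le_right (hW.inf hu.inv)
    have h2 := (hWn.mono (inf_le_left : W ⊓ L.eigenspace 1 ≤ W)).two_mul_le_on h hCn inf_le_right
    exact ⟨a, finrank F (W ⊓ L.eigenspace 1 : Submodule F (Fin n → F)), by omega,
      by rw [hsum W hW, ha, mul_comm a]; omega⟩
  · intro hWn
    obtain ⟨⟨a, ha⟩, -⟩ := exists_pieces h (injective_of_isom hN hB) hB hc0
      (fun Y hYE hY hYn hne => exists_piece_moved hF hσ h hN hB hr hL1 hE.disjoint hs hu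
        (hbo.trans (orderOf_card_eq hF).symm) hco hcase hYE hY hYn hne)
      inf_le_right (hW.inf hu.inv) (nondegOn_inf h horth hE.disjoint (hsum W hW) hWn).1
    have h2 := Submodule.finrank_mono (inf_le_right : W ⊓ L.eigenspace 1 ≤ L.eigenspace 1)
    exact ⟨a, finrank F (W ⊓ L.eigenspace 1 : Submodule F (Fin n → F)), by omega,
      by rw [hsum W hW, ha, mul_comm a]; omega⟩

/-- A witness with as many types as possible. -/
theorem witness_types (hF : Fintype.card F = q ^ 2) (hσ : ∀ x, σ x = x ^ q) (hσc : IsConjugation σ)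
    (hr : (r : F) ≠ 0) (hd : ¬ r ∣ q + 1) {n m b : ℕ} (hbo : b = orderOf ((q ^ 2 : ℕ) : ZMod r))
    (hco : b = orderOf (-(q : ZMod r))) (hb : Odd b) (hqb : (q : ZMod r) ^ b = -1) (hbn : b ≤ n) (hbm : b ≤ m)
    (hbad : n / b < (r - 1) / b + 2 * (m / b)) :
    ∃ L : Module.End F (Fin n → F), LinearMap.det L = 1 ∧ (∀ u v, stdHerm σ n (L u) (L v) = stdHerm σ n u v) ∧
      L ^ r = algebraMap F (Module.End F (Fin n → F)) 1 ∧
      (∀ z : F, L ≠ algebraMap F (Module.End F (Fin n → F)) z) ∧
      ∀ W : Submodule F (Fin n → F), Inv L W → Null (stdHerm σ n) W → finrank F W ≠ m := by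
  classical
  rw [← orderOf_card_eq hF] at hbo
  obtain ⟨S, hScard, -, hS⟩ := NullInv.exists_factors (F := F) (r := r) hr
  rw [← hbo] at hScard
  have hb0 : 0 < b := hb.pos
  have hrp : r.Prime := Fact.out
  have hs : (r - 1) / b = S.card := by rw [← hScard, Nat.mul_div_cancel _ hb0]
  rw [hs] at hbad
  have hs0 : 0 < S.card := Nat.pos_of_ne_zero fun h0 => by
    rw [h0, zero_mul] at hScard
    have := hrp.two_le
    omega
  have hn0 : 0 < n / b := Nat.div_pos hbn hb0
  set o := min (n / b) S.card with ho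
  set t := (n / b - o) / 2 with ht
  set k := o + 2 * t with hk
  have hkn : k * b ≤ n := (Nat.mul_le_mul_right b (show k ≤ n / b by omega)).trans (Nat.div_mul_le_self n b)
  let ty : Fin k → Fin S.card := fun a => if ha : a.1 < o then ⟨a.1, by omega⟩ else ⟨0, hs0⟩
  let f : Fin k → Polynomial F := fun a => (S.equivFin.symm (ty a)).1
  have hfa : ∀ a, f a ∈ S := fun a => (S.equivFin.symm (ty a)).2
  have hT : ∀ S' : Finset (Polynomial F), ∑ g ∈ S', Nat.card {a // f a = g} / 2 ≤ t := by
    intro S'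
    set g₀ : Polynomial F := (S.equivFin.symm ⟨0, hs0⟩).1
    have hinj : ∀ a b, f a = f b → ty a = ty b := fun a b hab => S.equivFin.symm.injective (Subtype.ext hab)
    have h1 : ∀ g, g ≠ g₀ → Nat.card {a // f a = g} / 2 = 0 := fun g hg => by
      have hsub : Subsingleton {a // f a = g} := ⟨fun a b => by
        have hab := hinj a.1 b.1 (a.2.trans b.2.symm)
        have hlt : ∀ c : {a // f a = g}, c.1.1 < o := fun c => by
          by_contra hc
          refine hg ?_
          rw [← c.2]
          simp [f, ty, hc, g₀]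
        have := hlt a; have := hlt b
        simp only [ty, hlt a, hlt b, dite_true, Fin.mk.injEq] at hab
        exact Subtype.ext (Fin.ext hab)⟩
      have := Finite.card_le_one_iff_subsingleton.2 hsub
      omega
    have h0 : Nat.card {a // f a = g₀} ≤ 1 + 2 * t := by
      refine le_of_le_of_eq (Nat.card_le_card_of_injective
        (fun a : {a // f a = g₀} => if h : a.1.1 < o then (⟨0, by omega⟩ : Fin (1 + 2 * t))
          else ⟨a.1.1 - o + 1, by have := a.1.2; omega⟩) fun a b hab => ?_) (Nat.card_fin _)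
      have hz : ∀ c : {a // f a = g₀}, c.1.1 < o → c.1.1 = 0 := fun c hc => by
        have h2 := hinj c.1 ⟨0, by omega⟩ (c.2.trans (by simp [f, ty, g₀, show 0 < o by omega]))
        simpa [ty, hc, show 0 < o by omega] using h2
      refine Subtype.ext (Fin.ext ?_)
      by_cases ha : a.1.1 < o <;> by_cases hb : b.1.1 < o <;> simp [ha, hb, Fin.ext_iff] at hab
      · rw [hz a ha, hz b hb]
      · omega
    calc ∑ g ∈ S', Nat.card {a // f a = g} / 2 = ∑ g ∈ S', if g = g₀ then Nat.card {a // f a = g₀} / 2 else 0 :=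
          Finset.sum_congr rfl fun g _ => by split_ifs with hg <;> [rw [hg]; exact h1 g hg]
      _ ≤ t := by
        rw [Finset.sum_ite_eq']
        split_ifs <;> omega
  choose X hX hXB hXf hXg using fun a =>
    exists_typed (σ := σ) hF hσ hσc hr hbo hco hb0 (hS _ (hfa a)).1 (hS _ (hfa a)).2.2.2
  obtain ⟨L, hLr, hB, -, -, hfix, hker⟩ := exists_blocks (σ := σ) (blockEquiv (n := n) k b (n - k * b) (by omega))
    X (j := r) (1 : F) (Or.inl rfl) (fun a => by rw [map_one]; exact hX a) hXB
  have h := stdHerm_isHermitian hσc n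
  have hN := stdHerm_sepRight (σ := σ) n
  have hl := hfix hXf
  have hL1 : L ^ r = 1 := by rw [hLr, map_one]
  have hkpos : 0 < k * b := Nat.mul_pos (by omega) hb0
  have hlt : finrank F (L.eigenspace 1) < finrank F (Fin n → F) := by
    rw [Module.finrank_fin_fun]
    omega
  haveI : Nontrivial (Fin n → F) := Module.nontrivial_of_finrank_pos (R := F) (by omega)
  refine ⟨L, det_eq_one hσ h hN hB hd hL1, hB, hLr, not_scalar hσ h hN hB hd hL1 hlt, fun W hW hWn hWd => ?_⟩
  have h1 := null_bound hF hσ h hN hB hr hL1 hbo hb hqb hl (fun g => Nat.card {a // f a = g})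
    (fun g hgi hgm hgd hgc => hker f g (fun h0 => by
      haveI : NeZero (r : F) := ⟨hr⟩
      have h2 : (cyclotomic r F).IsRoot 1 := Polynomial.IsRoot.dvd h0 hgc
      rw [Polynomial.IsRoot.def, Polynomial.eval_one_cyclotomic_prime] at h2
      exact hr h2) hXg fun a ha =>
      NullInv.coprime_of_ne (hS _ (hfa a)).1 (hS _ (hfa a)).2.1 hgi hgm ha) hT hW hWn
  rw [hWd] at h1
  have hkb : k * b = o * b + 2 * (t * b) := by rw [hk]; ring
  have hm' := Nat.div_add_mod m b
  have := Nat.mod_lt n hb0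
  have hnd := Nat.div_add_mod n b
  rcases Nat.le_total (n / b) S.card with hle | hle
  · have : o = n / b := min_eq_left hle
    rw [this, mul_comm (n / b) b] at hkb
    omega
  · have : o = S.card := min_eq_right hle
    rw [this] at hkb
    have h2 : (n / b + 1) * b ≤ (S.card + 2 * (m / b)) * b := Nat.mul_le_mul_right b hbad
    rw [add_mul, add_mul, one_mul, mul_comm (n / b) b, show 2 * (m / b) * b = 2 * (b * (m / b)) by ring] at h2
    omega

/-- `r` divides `q + 1`: a diagonal witness. -/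
theorem witness_diag (hF : Fintype.card F = q ^ 2) (hσ : ∀ x, σ x = x ^ q) (hσc : IsConjugation σ)
    (hr : (r : F) ≠ 0) (hr2 : Odd r) (hd : r ∣ q + 1) {n m : ℕ} (hm : 1 ≤ m) (hmn : 2 * m ≤ n)
    (hbad : n < r - 1 + 2 * m) :
    ∃ L : Module.End F (Fin n → F), LinearMap.det L = 1 ∧ (∀ u v, stdHerm σ n (L u) (L v) = stdHerm σ n u v) ∧
      L ^ r = algebraMap F (Module.End F (Fin n → F)) 1 ∧
      (∀ z : F, L ≠ algebraMap F (Module.End F (Fin n → F)) z) ∧
      ∀ W : Submodule F (Fin n → F), Inv L W → Null (stdHerm σ n) W → finrank F W ≠ m := by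
  classical
  have hrp : r.Prime := Fact.out
  have hr3 : 2 < r := by have := hrp.two_le; have := Nat.odd_iff.1 hr2; omega
  set t := (n - 2 * m + 2) / 2 with ht
  have htr : 2 * t ≤ r - 1 := by have := Nat.odd_iff.1 hr2; omega
  have hqb : (q : ZMod r) ^ 1 = -1 := by
    rw [pow_one, eq_neg_iff_add_eq_zero, ← Nat.cast_one, ← Nat.cast_add, ZMod.natCast_eq_zero_iff]
    exact hd
  have hbo : (1 : ℕ) = orderOf (Fintype.card F : ZMod r) := by
    have hq1 : (q : ZMod r) = -1 := by simpa using hqb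
    rw [eq_comm, orderOf_eq_one_iff, hF, Nat.cast_pow, hq1, neg_one_sq]
  haveI : Finite Fˣ := inferInstance
  obtain ⟨u, hu⟩ := exists_prime_orderOf_dvd_card' (G := Fˣ) r (by
    rw [Nat.card_units, Nat.card_eq_fintype_card, card_sub_one hF]
    exact dvd_mul_of_dvd_left hd _)
  set ζ : F := (u : F) with hζd
  have hζ : IsPrimitiveRoot ζ r := by
    rw [← hu, hζd, ← orderOf_units]
    exact IsPrimitiveRoot.orderOf _
  have hζn : ∀ j : ℕ, (ζ ^ j) ^ (q + 1) = 1 := fun j => by
    obtain ⟨w, hw⟩ := hd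
    rw [← pow_mul, mul_comm, pow_mul, hw, pow_mul, hζ.pow_eq_one, one_pow, one_pow]
  let ex : Fin (t + t) → ℕ := fun a => if a.1 < t then a.1 + 1 else r - (a.1 - t + 1)
  have hexr : ∀ a, 0 < ex a ∧ ex a < r := fun a => by
    have := a.2
    simp only [ex]
    split_ifs <;> omega
  have hexi : Function.Injective ex := fun a b hab => by
    have := a.2; have := b.2
    refine Fin.ext ?_
    simp only [ex] at hab
    split_ifs at hab <;> omega
  let X : Fin (t + t) → Module.End F (Fin 1 → F) := fun a => algebraMap F _ (ζ ^ ex a)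
  have hXf : ∀ a v, X a v = v → v = 0 := fun a v hv => by
    rw [Module.algebraMap_end_apply] at hv
    have h1 : (ζ ^ ex a - 1) • v = 0 := by rw [sub_smul, hv, one_smul, sub_self]
    exact (smul_eq_zero.1 h1).resolve_left
      (sub_ne_zero.2 (hζ.pow_ne_one_of_pos_of_lt (hexr a).1.ne' (hexr a).2))
  obtain ⟨L, hLr, hB, hdet, hsc, hfix, hker⟩ := exists_blocks (σ := σ)
    (blockEquiv (n := n) (t + t) 1 (n - (t + t)) (by omega)) X (j := r) (1 : F) (Or.inl rfl)
    (fun a => by rw [← map_pow, ← pow_mul, mul_comm, pow_mul, hζ.pow_eq_one, one_pow])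
    (fun a x y => by
      simp only [X, Module.algebraMap_end_apply, map_smulₛₗ, RingHom.id_apply, LinearMap.smul_apply, smul_eq_mul, hσ]
      rw [← mul_assoc, ← pow_succ', hζn, one_mul])
  have h := stdHerm_isHermitian hσc n
  have hN := stdHerm_sepRight (σ := σ) n
  have hl := hfix hXf
  have hL1 : L ^ r = 1 := by rw [hLr, map_one]
  refine ⟨L, ?_, hB, hLr, fun z hz => ?_, fun W hW hWn hWd => ?_⟩
  · rw [hdet]
    simp only [X, Algebra.algebraMap_eq_smul_one, LinearMap.det_smul, Module.finrank_fin_fun, map_one, mul_one, pow_one]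
    rw [Fin.prod_univ_add, ← Finset.prod_mul_distrib]
    refine Finset.prod_eq_one fun a _ => ?_
    have := a.2
    simp only [ex, Fin.val_castAdd, Fin.val_natAdd, if_pos this, if_neg (show ¬ t + a.1 < t by omega)]
    rw [← pow_add, show a.1 + 1 + (r - (t + a.1 - t + 1)) = r by omega, hζ.pow_eq_one]
  · have h0 := hsc z hz ⟨0, by omega⟩
    have h1 := hsc z hz ⟨t, by omega⟩
    have h2 := hζ.pow_inj (hexr _).2 (hexr _).2
      ((algebraMap F (Module.End F (Fin 1 → F))).injective (h0.trans h1.symm))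
    have := Fin.mk.inj_iff.1 (hexi h2)
    omega
  · have h1 := null_bound hF hσ h hN hB hr hL1 hbo odd_one hqb hl
      (fun g => Nat.card {a // (fun a => Polynomial.X - Polynomial.C (ζ ^ ex a)) a = g})
      (fun g hgi hgm hgd hgc => hker _ g (fun h0 => by
          haveI : NeZero (r : F) := ⟨hr⟩
          have h2 : (cyclotomic r F).IsRoot 1 := Polynomial.IsRoot.dvd h0 hgc
          rw [Polynomial.IsRoot.def, Polynomial.eval_one_cyclotomic_prime] at h2
          exact hr h2)
        (fun a => by rw [map_sub, aeval_X, aeval_C]; exact sub_self _) fun a ha =>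
        NullInv.coprime_of_ne (irreducible_X_sub_C _) (monic_X_sub_C _) hgi hgm ha)
      (T := 0) (fun S => (Finset.sum_eq_zero fun g _ => by
        have hsub : Subsingleton {a // (fun a => Polynomial.X - Polynomial.C (ζ ^ ex a)) a = g} := ⟨fun a b =>
          Subtype.ext (hexi (hζ.pow_inj (hexr _).2 (hexr _).2 (Polynomial.C_injective (sub_right_injective
            (a.2.trans b.2.symm)))))⟩
        have := Finite.card_le_one_iff_subsingleton.2 hsub
        omega).le) hW hWn
    omega

/-- A scalar that is no `r`-th power with a root of determinant one. -/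
theorem exists_kummer_scalar (hF : Fintype.card F = q ^ 2) (hr2 : Odd r) (hd : r ∣ q + 1) {n : ℕ}
    (hv : padicValNat r (q + 1) < padicValNat r n) :
    r ∣ n ∧ ∃ z : F, z ^ (q + 1) = 1 ∧ z ^ (n / r) = 1 ∧ ∀ d : F, d ^ r ≠ z := by
  have hrp : r.Prime := Fact.out
  set A := padicValNat r (q + 1) with hA
  have hA1 : 1 ≤ A := one_le_padicValNat_of_dvd (by omega) hd
  have hn1 : r ^ (A + 1) ∣ n := (pow_dvd_pow r hv).trans pow_padicValNat_dvd
  have hrn : r ∣ n := (dvd_pow_self r (by omega)).trans hn1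
  refine ⟨hrn, ?_⟩
  have hAq : r ^ A ∣ q + 1 := pow_padicValNat_dvd
  obtain ⟨u, hu⟩ := IsCyclic.exists_ofOrder_eq_natCard (α := Fˣ)
  rw [Nat.card_units, Nat.card_eq_fintype_card, card_sub_one hF] at hu
  have hdvd : r ^ A ∣ orderOf u := hu ▸ dvd_mul_of_dvd_left hAq _
  have hu0 : orderOf u ≠ 0 := (orderOf_pos u).ne'
  set v := u ^ (orderOf u / r ^ A) with hv'
  have hvo : orderOf v = r ^ A := orderOf_pow_orderOf_div hu0 hdvd
  have hz : ((v : F)) ^ (q + 1) = 1 := by
    rw [← Units.val_pow_eq_pow_val, orderOf_dvd_iff_pow_eq_one.1 (hvo.symm ▸ hAq), Units.val_one]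
  refine ⟨v, hz, ?_, ?_⟩
  · have h1 : r ^ A ∣ n / r := Nat.dvd_div_of_mul_dvd (by rw [← pow_succ']; exact hn1)
    rw [← Units.val_pow_eq_pow_val, orderOf_dvd_iff_pow_eq_one.1 (hvo.symm ▸ h1), Units.val_one]
  · rcases norm_root_or hF hr2 hz with ⟨w, hw, hwr⟩ | ⟨-, h1, -⟩
    swap
    · exact h1
    exfalso
    have h2 : ((v : F)) ^ ((q + 1) / r) = 1 := by rw [← hwr, ← pow_mul, Nat.mul_div_cancel' hd, hw]
    rw [← Units.val_pow_eq_pow_val, Units.val_eq_one] at h2
    have h3 := orderOf_dvd_of_pow_eq_one h2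
    rw [hvo] at h3
    have h4 : r ^ (A + 1) ∣ q + 1 := by
      rw [pow_succ]
      exact (Nat.mul_dvd_mul_right h3 r).trans (dvd_of_eq (Nat.div_mul_cancel hd))
    have := (padicValNat_dvd_iff_le (by omega : q + 1 ≠ 0)).1 h4
    omega

open Fin.CommRing in
/-- A cyclic block: an `h`-th root of a norm one scalar. -/
theorem exists_cycle (hσ : ∀ x, σ x = x ^ q) {h : ℕ} [NeZero h] {z : F} (hz : z ^ (q + 1) = 1) :
    ∃ T : Module.End F (Fin h → F), T ^ h = algebraMap F (Module.End F (Fin h → F)) z ∧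
      (∀ u v, stdHerm σ h (T u) (T v) = stdHerm σ h u v) ∧
      ∀ v i, T v i = (if i = 0 then z else 1) * v (i - 1) := by
  let d : Fin h → F := fun i => if i = 0 then z else 1
  let T : Module.End F (Fin h → F) :=
    { toFun := fun v i => d i * v (i - 1)
      map_add' := fun u v => funext fun i => by simp [mul_add]
      map_smul' := fun c v => funext fun i => by simp [mul_left_comm] }
  have hT : ∀ v i, T v i = d i * v (i - 1) := fun v i => rfl
  have hd : ∀ i, σ (d i) * d i = 1 := fun i => by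
    simp only [d]
    split_ifs
    · rw [hσ, ← pow_succ, hz]
    · simp
  refine ⟨T, ?_, fun u v => ?_, hT⟩
  · have hp : ∀ (j : ℕ) v (i : Fin h), (T ^ j) v i =
        (∏ s ∈ Finset.range j, d (i - (s : Fin h))) * v (i - (j : Fin h)) := fun j => by
      induction j with
      | zero => intro v i; simp
      | succ j ih =>
        intro v i
        rw [pow_succ, Module.End.mul_apply, ih, hT, Finset.prod_range_succ, Nat.cast_succ, sub_sub, mul_assoc]
    refine LinearMap.ext fun v => funext fun i => ?_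
    rw [hp, Module.algebraMap_end_apply, Pi.smul_apply, smul_eq_mul, Fin.natCast_self, sub_zero]
    congr 1
    rw [← Fin.prod_univ_eq_prod_range (fun s => d (i - (s : Fin h))) h]
    simp only [Fin.cast_val_eq_self]
    rw [← (Equiv.subLeft i).symm.prod_comp]
    simp [d]
  · simp only [stdHerm_apply, hT, map_mul]
    refine Eq.trans (Finset.sum_congr rfl fun i _ => ?_) (Equiv.sum_comp (Equiv.subRight (1 : Fin h)) fun i => σ (u i) * v i)
    simp only [Equiv.subRight_apply]
    linear_combination (σ (u (i - 1)) * v (i - 1)) * hd i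

/-- `r` divides `q + 1`: a witness whose invariant subspaces have dimension divisible by `r`. -/
theorem witness_kummer (hF : Fintype.card F = q ^ 2) (hσ : ∀ x, σ x = x ^ q) (hr : (r : F) ≠ 0) (hr2 : Odd r)
    (hd : r ∣ q + 1) {n : ℕ} (hn : 0 < n) (hv : padicValNat r (q + 1) < padicValNat r n) :
    ∃ (L : Module.End F (Fin n → F)) (z : F), LinearMap.det L = 1 ∧
      (∀ u v, stdHerm σ n (L u) (L v) = stdHerm σ n u v) ∧
      L ^ r = algebraMap F (Module.End F (Fin n → F)) z ∧
      (∀ y : F, L ≠ algebraMap F (Module.End F (Fin n → F)) y) ∧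
      ∀ W : Submodule F (Fin n → F), Inv L W → r ∣ finrank F W := by
  have hrp : r.Prime := Fact.out
  obtain ⟨hrn, z, hz, hzn, hzr⟩ := exists_kummer_scalar hF hr2 hd hv
  haveI : NeZero r := ⟨hrp.ne_zero⟩
  obtain ⟨T, hT, hTB, -⟩ := exists_cycle (σ := σ) (h := r) hσ hz
  obtain ⟨L, hLr, hB, -, -, -, -⟩ := exists_blocks (σ := σ)
    (blockEquiv (n / r) r 0 (by rw [add_zero, Nat.div_mul_cancel hrn])) (fun _ => T) (j := r) z (Or.inr rfl)
    (fun _ => hT) (fun _ => hTB)
  refine ⟨L, z, ?_, hB, hLr, fun y hy => hzr y ?_, fun W hW => kummer_dvd hzr hLr hW⟩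
  · rw [kummer_det hr hzr hLr, Module.finrank_fin_fun, Even.neg_one_pow hr2.add_one, one_mul, hzn]
  · haveI : Nontrivial (Fin n → F) := Module.nontrivial_of_finrank_pos (R := F) (by rw [Module.finrank_fin_fun]; exact hn)
    exact (algebraMap F (Module.End F (Fin n → F))).injective (by rw [map_pow, ← hy, hLr])

end CfsgLib.Derangements.UnitElusive
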